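import Cfsg.Agent.Lib.KnownA.O7ThreeSchur.Orbit
import Cfsg.Agent.Lib.KnownA.OrthPBase
import Cfsg.Agent.Lib.KnownA.OrthMult

/-!
The bound six for the stem extensions over the orthogonal group in seven dimensions over three
elements.
-/

set_option autoImplicit false
set_option linter.unusedSectionVars false

namespace CfsgLib.KnownA.O7ThreeSchur

open CfsgLib.Geom CfsgLib.Classical CfsgLib.KnownA.OrthGeom CfsgLib.KnownA.OrthLift
  CfsgLib.KnownA.OrthPKills CfsgLib.KnownA.CExt CfsgLib.KnownA.LGood CfsgLib.KnownA.OrthStd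
  CfsgLib.KnownA.OrthBound
open QuadraticMap (polar)
open scoped commutatorElement

universe u

/-- The space. -/
abbrev V7 (F : Type u) : Type u := Unit ⊕ (Fin 3 ⊕ Fin 3) → F

variable {F : Type u} [Field F] [Fintype F] [hchar : CharP F 3]

/-- The unit vector off the pairs. -/
def e0 : V7 F := Pi.single (.inl ()) 1

theorem unit0 (h2 : (2 : F) ≠ 0) : Unit0 (qfOdd 3 F) (frameOdd h2 0) e0 := by
  refine ⟨by simp [e0, qfOdd_apply, Cfsg.quadFormOdd, Pi.single_apply],
    ?_, ?_, ?_, ?_, ?_, ?_, fun w hw => ?_⟩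
  case refine_7 =>
    obtain ⟨h1, h2'⟩ := Submodule.mem_inf.1 hw
    obtain ⟨a1, a2⟩ := (mem_perp2 _).1 h1
    obtain ⟨a3, a4⟩ := (mem_perp2 _).1 h2'
    simp [frameOdd, HypFam.frame, famOdd, polar_qfOdd, Pi.single_apply] at a1 a2 a3 a4
    refine ⟨w (.inr (.inl 2)), w (.inr (.inr 2)), w (.inl ()), funext fun i => ?_⟩
    rcases i with ⟨⟩ | i | i
    · simp [frameOdd, HypFam.frame, famOdd, e0, Pi.single_apply]
    · fin_cases i <;> simp_all [frameOdd, HypFam.frame, famOdd, e0, Pi.single_apply]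
    · fin_cases i <;> simp_all [frameOdd, HypFam.frame, famOdd, e0, Pi.single_apply]
  all_goals simp [e0, frameOdd, HypFam.frame, famOdd, polar_qfOdd, Pi.single_apply]

theorem span_v (h2 : (2 : F) ≠ 0) : ∀ w ∈ Wv (frameOdd h2 0), ∃ α β γ : F,
    w = α • (frameOdd h2 0).u + β • (frameOdd h2 0).u' + γ • e0 := by
  intro w hw
  obtain ⟨h1, h2'⟩ := Submodule.mem_inf.1 hw
  obtain ⟨a1, a2⟩ := (mem_perp2 _).1 h1
  obtain ⟨a3, a4⟩ := (mem_perp2 _).1 h2'
  simp [frameOdd, HypFam.frame, famOdd, polar_qfOdd, Pi.single_apply] at a1 a2 a3 a4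
  refine ⟨w (.inr (.inl 1)), w (.inr (.inr 1)), w (.inl ()), funext fun i => ?_⟩
  rcases i with ⟨⟩ | i | i
  · simp [frameOdd, HypFam.frame, famOdd, e0, Pi.single_apply]
  · fin_cases i <;> simp_all [frameOdd, HypFam.frame, famOdd, e0, Pi.single_apply]
  · fin_cases i <;> simp_all [frameOdd, HypFam.frame, famOdd, e0, Pi.single_apply]

theorem two_ne : (2 : F) ≠ 0 := by
  intro h
  have h' : ((2 : ℕ) : F) = 0 := by exact_mod_cast h
  rw [CharP.cast_eq_zero_iff F 3] at h'
  norm_num at h'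

/-- Extensions with kernels that are three-groups. -/
theorem lext_card (hnat : ∀ t : F, ∃ n : ℕ, (n : F) = t) {E : Type u} [Group E]
    (π : E →* siegelGroup (qfOdd 3 F)) (hE : IsLExt 3 π) (hstem : π.ker ≤ commutator E) :
    Nat.card π.ker ∣ 3 := by
  haveI : Fact (Nat.Prime 3) := ⟨Nat.prime_three⟩
  haveI := hE.fin
  have h2 : (2 : F) ≠ 0 := two_ne
  set A := frameOdd (F := F) h2 0
  set S := idLift (qfOdd 3 F)
  have hs1 := idLift_invalid (Q := qfOdd 3 F)
  have U : Unit0 (qfOdd 3 F) A e0 := unit0 h2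
  set hπ := hE.cs
  set z := pair S hπ A.v e0 A.x A.u with hz
  have o : Orth (qfOdd 3 F) A.v e0 A.x A.u := by
    have := orth_of_mem hnat (A := A) (v_mem hnat U) (e_mem hnat U) A.Puv.huu.qx U.ev 1 0
    simpa using this
  have hzk : z ∈ π.ker := cpair_mem_ker hπ (orth_comm S o)
  have hz3 : z ^ 3 = 1 := by
    have h : pair S hπ A.v e0 A.x ((3 : F) • A.u) = z ^ 3 := by
      rw [show ((3 : F) • A.u) = (2 : F) • A.u + A.u by module, pair_add_right S hπ (o.smul_right 2) o,
        show ((2 : F) • A.u) = A.u + A.u by module, pair_add_right S hπ o o, pow_succ, pow_two]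
    have h3 : (3 : F) = 0 := by exact_mod_cast CharP.cast_eq_zero F 3
    rw [← h, h3, zero_smul, pair_zero_right S hπ A.P.hxy.qx]
  set N : Subgroup E := Subgroup.zpowers z
  have hNker : N ≤ π.ker := Subgroup.zpowers_le.2 hzk
  haveI : N.Normal := ⟨fun n hn x => by
    rw [hπ.conj_ker (hNker hn)]
    exact hn⟩
  set π' : E ⧸ N →* siegelGroup (qfOdd 3 F) := QuotientGroup.lift N π hNker
  have hmk : ∀ x, π' (QuotientGroup.mk' N x) = π x := fun _ => rfl
  have hE' : IsLExt 3 π' := by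
    refine ⟨⟨fun g => ?_, fun q hq => ?_⟩, inferInstance, fun q => ?_⟩
    · obtain ⟨w, rfl⟩ := hπ.surj g
      exact ⟨_, hmk w⟩
    · obtain ⟨w, rfl⟩ := QuotientGroup.mk'_surjective N q
      rw [Subgroup.mem_center_iff]
      intro q'
      obtain ⟨w', rfl⟩ := QuotientGroup.mk'_surjective N q'
      rw [← map_mul, ← map_mul, hπ.comm hq w']
    · obtain ⟨q, hq⟩ := q
      obtain ⟨w, rfl⟩ := QuotientGroup.mk'_surjective N q
      obtain ⟨k, hk⟩ := hE.isP ⟨w, hq⟩
      exact ⟨k, Subtype.ext (by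
        show QuotientGroup.mk' N w ^ 3 ^ k = 1
        rw [← map_pow, show w ^ 3 ^ k = 1 from congrArg Subtype.val hk, map_one])⟩
  set hπ' := hE'.cs
  have hpair : ∀ a b x c, pair S hπ a b x c ∈ N → pair S hπ' a b x c = 1 := by
    intro a b x c hm
    obtain ⟨p, hp⟩ := hπ.surj (S.s a b)
    obtain ⟨q, hq⟩ := hπ.surj (S.s x c)
    rw [pair, cpair_eq hπ' ((hmk p).trans hp) ((hmk q).trans hq), ← map_commutatorElement,
      ← cpair_eq hπ hp hq]
    exact (QuotientGroup.eq_one_iff _).2 hm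
  obtain ⟨⟨b1, b2, b3, b4⟩, c1, c2, c3, c4⟩ := base_mem S U hπ N (Subgroup.mem_zpowers z)
  have hcu : CommU S A hπ' := fun a ha b hb qa hab c d =>
    hpair _ _ _ _ (pair_all S hπ hnat U N b1 b2 b3 b4 ha hb qa hab c d)
  have hcv : CommU S (swapUV A) hπ' := fun a ha b hb qa hab c d =>
    hpair _ _ _ _ (pair_all S hπ hnat (U.swapUV (span_v h2)) N c1 c2 c3 c4 ha hb qa hab c d)
  obtain ⟨e⟩ := gW_equiv A (extOdd 2) (extOdd_injective _) (range_extOdd h2 0) (qfOdd_ext _)
  have hW : Kills π' (gW S A) := kills_of_mfree hE' (mfree_transport e.symm (mfree_odd_two 3 h2))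
  have hkill : Kills π' ⊤ := OrthPKills.kills_top S A hE' idLift_gen hs1 hW
    (fun a ha b hb => upair_eq_one S A hπ'
      (fun a ha a' ha' h c _ => upair_hyp_of_kills S A hπ' hs1 hW ha ha' h c) ha hb)
    (agree_of_odd S A hE' (by norm_num) hs1 hW) hcu hcv
  have hker : π.ker = N := by
    refine le_antisymm (fun w hw => ?_) hNker
    rw [← QuotientGroup.eq_one_iff (N := N)]
    refine kills_top_iff.1 hkill _ hw ?_
    have hmap : Subgroup.map (QuotientGroup.mk' N) (commutator E) ≤ commutator (E ⧸ N) := by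
      rw [commutator_def, Subgroup.map_commutator, commutator_def]
      exact Subgroup.commutator_mono le_top le_top
    exact hmap (Subgroup.mem_map_of_mem _ (hstem hw))
  rw [hker, Nat.card_zpowers]
  exact orderOf_dvd_of_pow_eq_one hz3

end CfsgLib.KnownA.O7ThreeSchur
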