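import Cfsg.Agent.Lib.KnownA.O7ThreeSchur.Data
import Cfsg.Agent.Lib.Chev.Pack

/-!
The kernel-checkable conditions on the monomial generators.
-/

set_option autoImplicit false

namespace CfsgLib.KnownA.O7ThreeSchur

open CfsgLib.Chev

/-- Apply a function to the evaluated value of a numeral. -/
noncomputable def force {α : Type} (n : ℕ) (k : ℕ → α) : α :=
  Nat.rec (k 0) (fun m _ => k (Nat.succ m)) n

theorem force_eq {α : Type} (n : ℕ) (k : ℕ → α) : force n k = k n := by cases n <;> rfl

/-- The field of a point in a packed generator. -/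
noncomputable def fld (r i : ℕ) : ℕ := Nat.shiftRight (nth 0 codes r) (11 * i) % 2048

/-- Add `d` to the label. -/
def shift (d s : ℕ) : ℕ := 3 * (s / 3) + (s % 3 + d) % 3

/-- A generator on a state `3 * point + label`. -/
noncomputable def act (r s : ℕ) : ℕ :=
  force s fun s => force (fld r (s / 3)) fun c => shift (s % 3) c

/-- The field of a point in a row of relative labels. -/
def rel (row j : ℕ) : ℕ := Nat.shiftRight row (2 * j) % 4

/-- A ternary digit. -/
def dig (c k : ℕ) : ℕ := c / 3 ^ k % 3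

/-- Seven digits. -/
def mkc (a b c d e f g : ℕ) : ℕ :=
  a % 3 + 3 * (b % 3) + 9 * (c % 3) + 27 * (d % 3) + 81 * (e % 3) + 243 * (f % 3) + 729 * (g % 3)

/-- The negated vector. -/
def negc (c : ℕ) : ℕ :=
  mkc (2 * dig c 0) (2 * dig c 1) (2 * dig c 2) (2 * dig c 3) (2 * dig c 4) (2 * dig c 5) (2 * dig c 6)

/-- The transformation of `(v, e₀)`. -/
def mv0 (c : ℕ) : ℕ :=
  mkc (dig c 0 + dig c 6) (dig c 1) (dig c 2) (dig c 3 + dig c 0 + 2 * dig c 6) (dig c 4) (dig c 5) (dig c 6)

/-- The transformation of `(v', e₀)`. -/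
def mv1 (c : ℕ) : ℕ :=
  mkc (dig c 0 + dig c 3) (dig c 1) (dig c 2) (dig c 3) (dig c 4) (dig c 5) (dig c 6 + dig c 0 + 2 * dig c 3)

/-- The transformation of `(u, e₀)`. -/
def mv2 (c : ℕ) : ℕ :=
  mkc (dig c 0 + dig c 5) (dig c 1) (dig c 2 + dig c 0 + 2 * dig c 5) (dig c 3) (dig c 4) (dig c 5) (dig c 6)

/-- The transformation of `(u', e₀)`. -/
def mv3 (c : ℕ) : ℕ :=
  mkc (dig c 0 + dig c 2) (dig c 1) (dig c 2) (dig c 3) (dig c 4) (dig c 5 + dig c 0 + 2 * dig c 2) (dig c 6)

/-- The transformation of `(x, u')`. -/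
def mv4 (c : ℕ) : ℕ :=
  mkc (dig c 0) (dig c 1 + 2 * dig c 2) (dig c 2) (dig c 3) (dig c 4) (dig c 5 + dig c 4) (dig c 6)

/-- The transformation of `(y, u)`. -/
def mv5 (c : ℕ) : ℕ :=
  mkc (dig c 0) (dig c 1) (dig c 2 + dig c 1) (dig c 3) (dig c 4 + 2 * dig c 5) (dig c 5) (dig c 6)

/-- The generators on vectors. -/
noncomputable def mv (k c : ℕ) : ℕ := nth (fun c => c) [mv0, mv1, mv2, mv3, mv4, mv5] k c

/-- The shape of a generator and its action on the lines. -/
noncomputable def genOK (k : ℕ) : Bool :=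
  allR (fun i => force (fld k i) fun ci =>
    Nat.blt ci 1134 && Nat.beq (act k (act k (act k (3 * i)))) (3 * i) &&
      force (mv k (nth 0 lines i)) fun v => force (nth 0 lines (ci / 3)) fun l =>
        Nat.beq v l || Nat.beq v (negc l))
    (upto 378)

/-- The generator preserves the relative labels on the rows in an interval. -/
noncomputable def edgeOK (k : ℕ) : Bool :=
  allR (fun i => force (fld k i) fun ci => force (nth 0 rows i) fun row =>
    force (nth 0 rows (ci / 3)) fun row' =>
      allR (fun j => force (fld k j) fun cj => force (rel row j) fun d =>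
        Nat.beq (rel row' (cj / 3)) (bif Nat.beq d 3 then 3 else (d + cj % 3 + (3 - ci % 3)) % 3))
        (upto 378))
    (upto 378)

/-- No two of the lines coincide. -/
noncomputable def linesOK : Bool :=
  allR (fun i => force (nth 0 lines i) fun l => Nat.blt l 2187 && force (negc l) fun m =>
    force (List.rec 0 (fun a _ ih => (bif Nat.beq a l || Nat.beq a m then 1 else 0) + ih) lines) fun t =>
      Nat.beq t 1) (upto 378)

/-- The tree. -/
noncomputable def treeOK : Bool :=
  allR (fun i => Nat.beq i 0 || force (nth 0 parents i) fun p =>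
    Nat.blt p i && !(Nat.beq (rel (nth 0 rows i) p) 3)) (upto 378)

end CfsgLib.KnownA.O7ThreeSchur
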