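import Cfsg.Agent.Lib.KnownA.O7ThreeSchur.Cert

/-! The checks of shape, lines and tree. -/

set_option autoImplicit false
set_option maxRecDepth 100000
set_option Elab.async false

namespace CfsgLib.KnownA.O7ThreeSchur

theorem lines_ok : linesOK = true := by decide +kernel

theorem tree_ok : treeOK = true := by decide +kernel

theorem gen0 : genOK 0 = true := by decide +kernel
theorem gen1 : genOK 1 = true := by decide +kernel
theorem gen2 : genOK 2 = true := by decide +kernel
theorem gen3 : genOK 3 = true := by decide +kernel
theorem gen4 : genOK 4 = true := by decide +kernel
theorem gen5 : genOK 5 = true := by decide +kernel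

theorem edge0 : edgeOK 0 = true := by decide +kernel
theorem edge1 : edgeOK 1 = true := by decide +kernel
theorem edge2 : edgeOK 2 = true := by decide +kernel
theorem edge3 : edgeOK 3 = true := by decide +kernel
theorem edge4 : edgeOK 4 = true := by decide +kernel
theorem edge5 : edgeOK 5 = true := by decide +kernel

end CfsgLib.KnownA.O7ThreeSchur
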