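import Cfsg.Agent.Lib.KnownA.OrthPConds

/-!
The commutators of lifts that the torus over three elements does not kill: all of them lie in the
subgroup generated by one.
-/

set_option autoImplicit false
set_option linter.unusedSectionVars false

namespace CfsgLib.KnownA.O7ThreeSchur

open CfsgLib.Geom CfsgLib.Classical CfsgLib.KnownA.OrthGeom CfsgLib.KnownA.OrthLift
  CfsgLib.KnownA.OrthPKills CfsgLib.KnownA.CExt CfsgLib.KnownA.LGood
open QuadraticMap (polar)
open scoped commutatorElement

universe u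

variable {F V : Type*} [Field F] [Finite F] [AddCommGroup V] [Module F V] [FiniteDimensional F V]
variable {Q : QuadraticForm F V} {Γ : Type u} [Group Γ] [Finite Γ] (S : SLift Q Γ)
variable {E : Type u} [Group E] {π : E →* Γ} (hπ : IsCentralSurj π)

/-- The commutator of lifts of two Siegel transformations. -/
noncomputable def pair (a b x c : V) : E := cpair hπ (S.s a b) (S.s x c)

/-- Four vectors whose transformations commute. -/
structure Orth (Q : QuadraticForm F V) (a b x c : V) : Prop where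
  qx : Q x = 0
  qa : Q a = 0
  ab : polar Q a b = 0
  xc : polar Q x c = 0
  ax : polar Q a x = 0
  ac : polar Q a c = 0
  bx : polar Q b x = 0
  bc : polar Q b c = 0

variable {a b b' x c c' : V}

theorem orth_comm (h : Orth Q a b x c) : S.s a b * S.s x c = S.s x c * S.s a b := by
  refine mul_inv_eq_iff_eq_mul.1 ?_
  rw [S.conj', S.act_s_fix h.ax h.bx, S.act_s_fix h.ac h.bc]

/-- Conjugation by an element fixing the radical's point. -/
theorem pair_conj (h : Orth Q a b x c) (γ : Γ) (hx : S.act γ x = x) :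
    pair S hπ (S.act γ a) (S.act γ b) x (S.act γ c) = pair S hπ a b x c := by
  obtain ⟨e, he⟩ := hπ.surj γ
  have k := conj_cpair hπ e (S.s a b) (S.s x c)
  rw [hπ.conj_ker (cpair_mem_ker hπ (orth_comm S h)), he, S.conj', S.conj', hx] at k
  exact k.symm

theorem pair_add_left (h : Orth Q a b x c) (h' : Orth Q a b' x c) :
    pair S hπ a (b + b') x c = pair S hπ a b x c * pair S hπ a b' x c := by
  rw [pair, S.add a b b' h.qa h.ab h'.ab,
    cpair_mul_left_of_comm hπ (orth_comm S h) (orth_comm S h')]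
  rfl

theorem pair_add_right (h : Orth Q a b x c) (h' : Orth Q a b x c') :
    pair S hπ a b x (c + c') = pair S hπ a b x c * pair S hπ a b x c' := by
  rw [pair, S.add x c c' h.qx h.xc h'.xc, cpair_mul_right_of_comm hπ (orth_comm S h')]
  rfl

theorem pair_zero_left (qa : Q a = 0) : pair S hπ a 0 x c = 1 := by
  rw [pair, S.s_zero qa, cpair_one_left]

theorem pair_zero_right (qx : Q x = 0) : pair S hπ a b x 0 = 1 := by
  rw [pair, S.s_zero qx, cpair_one_right]

theorem Orth.smul_left (h : Orth Q a b x c) (r : F) : Orth Q a (r • b) x c :=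
  ⟨h.qx, h.qa, by rw [QuadraticMap.polar_smul_right, h.ab, smul_zero], h.xc, h.ax, h.ac,
    by rw [QuadraticMap.polar_smul_left, h.bx, smul_zero],
    by rw [QuadraticMap.polar_smul_left, h.bc, smul_zero]⟩

theorem Orth.smul_right (h : Orth Q a b x c) (r : F) : Orth Q a b x (r • c) :=
  ⟨h.qx, h.qa, h.ab, by rw [QuadraticMap.polar_smul_right, h.xc, smul_zero], h.ax,
    by rw [QuadraticMap.polar_smul_right, h.ac, smul_zero], h.bx,
    by rw [QuadraticMap.polar_smul_right, h.bc, smul_zero]⟩

variable (hnat : ∀ t : F, ∃ n : ℕ, (n : F) = t)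
include hnat

theorem pair_smul_left (h : Orth Q a b x c) (r : F) (N : Subgroup E) (hN : pair S hπ a b x c ∈ N) :
    pair S hπ a (r • b) x c ∈ N := by
  obtain ⟨n, rfl⟩ := hnat r
  induction n with
  | zero => rw [Nat.cast_zero, zero_smul, pair_zero_left S hπ h.qa]; exact one_mem _
  | succ n ih =>
    rw [Nat.cast_succ, add_smul, one_smul, pair_add_left S hπ (h.smul_left _) h]
    exact mul_mem ih hN

theorem pair_smul_right (h : Orth Q a b x c) (r : F) (N : Subgroup E) (hN : pair S hπ a b x c ∈ N) :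
    pair S hπ a b x (r • c) ∈ N := by
  obtain ⟨n, rfl⟩ := hnat r
  induction n with
  | zero => rw [Nat.cast_zero, zero_smul, pair_zero_right S hπ h.qx]; exact one_mem _
  | succ n ih =>
    rw [Nat.cast_succ, add_smul, one_smul, pair_add_right S hπ (h.smul_right _) h]
    exact mul_mem ih hN

/-! ### The frame -/

variable (A : Frame Q)

/-- A unit vector orthogonal to the frame. -/
structure Unit0 (Q : QuadraticForm F V) (A : Frame Q) (e : V) : Prop where
  q : Q e = 1
  ex : polar Q A.x e = 0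
  ey : polar Q A.y e = 0
  eu : polar Q A.u e = 0
  eu' : polar Q A.u' e = 0
  ev : polar Q A.v e = 0
  ev' : polar Q A.v' e = 0
  span : ∀ w ∈ Wu A, ∃ α β γ : F, w = α • A.v + β • A.v' + γ • e

variable {A} {e : V} (U : Unit0 Q A e)
include U

theorem e_mem : e ∈ Wu A :=
  Submodule.mem_inf.2 ⟨(mem_perp2 Q).2 ⟨U.ex, U.ey⟩, (mem_perp2 Q).2 ⟨U.eu, U.eu'⟩⟩

theorem v_mem : A.v ∈ Wu A :=
  Submodule.mem_inf.2 ⟨A.Pv.u_mem, (mem_perp2 Q).2 ⟨A.Puv.xu, A.Puv.yu⟩⟩

theorem v'_mem : A.v' ∈ Wu A :=
  Submodule.mem_inf.2 ⟨A.Pv.u'_mem, (mem_perp2 Q).2 ⟨A.Puv.xu', A.Puv.yu'⟩⟩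

omit U in
theorem orth_of_mem {a b : V} (ha : a ∈ Wu A) (hb : b ∈ Wu A) (qa : Q a = 0) (hab : polar Q a b = 0)
    (r s : F) : Orth Q a b A.x (r • A.u + s • A.u') := by
  have h1 : ∀ z ∈ Wu A, polar Q z A.x = 0 ∧ polar Q z (r • A.u + s • A.u') = 0 := by
    intro z hz
    obtain ⟨hzW, hzp⟩ := Submodule.mem_inf.1 hz
    obtain ⟨e1, e2⟩ := (mem_perp2 Q).1 hzp
    refine ⟨by rw [QuadraticMap.polar_comm]; exact unip_perp A hzW, ?_⟩
    rw [QuadraticMap.polar_add_right, QuadraticMap.polar_smul_right, QuadraticMap.polar_smul_right,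
      QuadraticMap.polar_comm _ z A.u, QuadraticMap.polar_comm _ z A.u', e1, e2, smul_zero, smul_zero,
      add_zero]
  exact ⟨A.P.hxy.qx, qa, hab,
    by rw [QuadraticMap.polar_add_right, QuadraticMap.polar_smul_right, QuadraticMap.polar_smul_right,
      A.P.xu, A.P.xu', smul_zero, smul_zero, add_zero],
    (h1 a ha).1, (h1 a ha).2, (h1 b hb).1, (h1 b hb).2⟩

/-- All the pairs lie in a subgroup containing the four basic ones. -/
theorem pair_all (N : Subgroup E) (h1 : pair S hπ A.v e A.x A.u ∈ N)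
    (h2 : pair S hπ A.v e A.x A.u' ∈ N) (h3 : pair S hπ A.v' e A.x A.u ∈ N)
    (h4 : pair S hπ A.v' e A.x A.u' ∈ N) {a b : V} (ha : a ∈ Wu A) (hb : b ∈ Wu A) (qa : Q a = 0)
    (hab : polar Q a b = 0) (r s : F) : pair S hπ a b A.x (r • A.u + s • A.u') ∈ N := by
  have hve : polar Q A.v e = 0 := U.ev
  have hev : polar Q e A.v = 0 := by rw [QuadraticMap.polar_comm, hve]
  have hee : polar Q e e = 2 := by rw [QuadraticMap.polar_self, U.q, nsmul_eq_mul, mul_one]; norm_num
  -- the two singular basis vectors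
  have hw : ∀ w ∈ ({A.v, A.v'} : Set V), Q w = 0 ∧ w ∈ Wu A ∧ polar Q w e = 0 ∧
      pair S hπ w e A.x A.u ∈ N ∧ pair S hπ w e A.x A.u' ∈ N := by
    rintro w (rfl | rfl)
    · exact ⟨A.Puv.huu.qx, v_mem hnat U, U.ev, h1, h2⟩
    · exact ⟨A.Puv.huu.qy, v'_mem hnat U, U.ev', h3, h4⟩
  have base : ∀ w ∈ ({A.v, A.v'} : Set V), ∀ g : F,
      pair S hπ w (g • e) A.x (r • A.u + s • A.u') ∈ N := by
    intro w hwm g
    obtain ⟨qw, hwW, hwe, k1, k2⟩ := hw w hwm
    have o := fun r s => orth_of_mem hnat (A := A) hwW (Submodule.smul_mem _ g (e_mem hnat U)) qw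
      (by rw [QuadraticMap.polar_smul_right, hwe, smul_zero]) r s
    have o' := fun r s => orth_of_mem hnat (A := A) hwW (e_mem hnat U) qw hwe r s
    have o1 : Orth Q w e A.x A.u := by simpa using o' 1 0
    have o2 : Orth Q w e A.x A.u' := by simpa using o' 0 1
    rw [pair_add_right S hπ (by simpa using o r 0) (by simpa using o 0 s)]
    exact mul_mem
      (pair_smul_right S hπ hnat (o1.smul_left g) r N (pair_smul_left S hπ hnat o1 g N k1))
      (pair_smul_right S hπ hnat (o2.smul_left g) s N (pair_smul_left S hπ hnat o2 g N k2))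
  -- moving into standard position
  have std : ∀ w w' : V, w ∈ ({A.v, A.v'} : Set V) → Hyp Q w w' → w' ∈ Wu A →
      (∀ z ∈ Wu A, ∃ α β γ : F, z = α • w + β • w' + γ • e) → polar Q w' e = 0 →
      ∀ b ∈ Wu A, polar Q w b = 0 → pair S hπ w b A.x (r • A.u + s • A.u') ∈ N := by
    intro w w' hwm hyp hw' hspan hw'e b hb hwb
    obtain ⟨qw, hwW, hwe, -, -⟩ := hw w hwm
    obtain ⟨α, β, γ, rfl⟩ := hspan b hb
    simp only [QuadraticMap.polar_add_right, QuadraticMap.polar_smul_right, hyp.xx, hyp.xy, hwe,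
      smul_eq_mul, mul_zero, mul_one, add_zero, zero_add] at hwb
    subst hwb
    rw [zero_smul, add_zero, pair,
      S.add w _ _ qw (by rw [QuadraticMap.polar_smul_right, hyp.xx, smul_zero])
        (by rw [QuadraticMap.polar_smul_right, hwe, smul_zero]),
      S.self α w qw, one_mul]
    exact base w hwm γ
  have stdv := fun b hb h => std A.v A.v' (Or.inl rfl) A.Puv.huu (v'_mem hnat U) U.span U.ev' b hb h
  have stdv' := fun b hb h => std A.v' A.v (Or.inr rfl) A.Puv.huu.symm (v_mem hnat U) (fun z hz => by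
    obtain ⟨α, β, γ, rfl⟩ := U.span z hz
    exact ⟨β, α, γ, by abel⟩) U.ev b hb h
  obtain ⟨α, β, γ, rfl⟩ := U.span a ha
  have hq : α * β + γ * γ = 0 := by
    have h := qa
    simp only [quad_map_add_smul, quad_smul, QuadraticMap.polar_add_left, QuadraticMap.polar_smul_left,
      U.ev, U.ev', A.Puv.huu.qx, A.Puv.huu.qy, U.q, A.Puv.huu.xy, smul_eq_mul] at h
    linear_combination h
  by_cases hβ : β = 0
  · subst hβ
    obtain rfl : γ = 0 := by simpa using hq
    rw [zero_smul, zero_smul, add_zero, add_zero] at hab ⊢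
    by_cases hα0 : α = 0
    · subst hα0
      have h := S.smul 0 0 b (QuadraticMap.map_zero Q) (QuadraticMap.polar_zero_left Q b)
      rw [zero_smul, zero_smul, S.s_zero (QuadraticMap.map_zero Q)] at h
      rw [pair, zero_smul, h, cpair_one_left]
      exact one_mem _
    rw [pair, S.smul α A.v b A.Puv.huu.qx]
    · exact stdv _ (Submodule.smul_mem _ _ hb) (by
        rw [QuadraticMap.polar_smul_right, ← QuadraticMap.polar_smul_left, hab])
    · rw [QuadraticMap.polar_smul_left, smul_eq_mul, mul_eq_zero] at hab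
      exact hab.resolve_left hα0
  · set g := γ / β with hg
    set h : Γ := S.s A.v (g • e) with hh
    have hvg : polar Q A.v (g • e) = 0 := by rw [QuadraticMap.polar_smul_right, hve, smul_zero]
    have hfix : ∀ z, polar Q A.v z = 0 → polar Q e z = 0 → S.act h z = z := fun z z1 z2 =>
      S.act_s_fix z1 (by rw [QuadraticMap.polar_smul_left, z2, smul_zero])
    have hx : S.act h A.x = A.x :=
      hfix _ A.Pv.ux (by rw [QuadraticMap.polar_comm, U.ex])
    have hu : S.act h A.u = A.u :=
      hfix _ A.Puv.ux (by rw [QuadraticMap.polar_comm, U.eu])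
    have hu' : S.act h A.u' = A.u' :=
      hfix _ A.Puv.uy (by rw [QuadraticMap.polar_comm, U.eu'])
    have ha' : S.act h (β • A.v') = α • A.v + β • A.v' + γ • e := by
      rw [map_smul, hh, S.act_s A.Puv.huu.qx hvg, A.Puv.huu.xy, one_smul,
        QuadraticMap.polar_smul_left, quad_smul, U.q, QuadraticMap.polar_comm _ e A.v', U.ev']
      simp only [smul_eq_mul]
      rw [hg]
      match_scalars <;> field_simp
      linear_combination -hq
    set b₀ := S.act h⁻¹ b with hb₀
    have hb₀' : S.act h b₀ = b := S.act_act_inv h b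
    have hb₀W : b₀ ∈ Wu A := by
      rw [hb₀, hh, ← S.s_neg A.Puv.huu.qx hvg, S.act_s A.Puv.huu.qx (by
        rw [QuadraticMap.polar_neg_right, hvg, neg_zero])]
      exact sub_mem (add_mem hb (Submodule.smul_mem _ _ (neg_mem (Submodule.smul_mem _ _ (e_mem hnat U)))))
        (Submodule.smul_mem _ _ (v_mem hnat U))
    have hab₀ : polar Q (β • A.v') b₀ = 0 := by
      rw [← S.polar_act h, hb₀', ha', hab]
    have o := orth_of_mem hnat (A := A) (Submodule.smul_mem _ β (v'_mem hnat U)) hb₀W
      (by rw [quad_smul, A.Puv.huu.qy, mul_zero]) hab₀ r s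
    have k := pair_conj S hπ o h hx
    rw [ha', hb₀', map_add, map_smul, map_smul, hu, hu'] at k
    have hv'b : polar Q A.v' b₀ = 0 := by
      rw [QuadraticMap.polar_smul_left, smul_eq_mul, mul_eq_zero] at hab₀
      exact hab₀.resolve_left hβ
    rw [k, pair, S.smul β A.v' b₀ A.Puv.huu.qy hv'b]
    exact stdv' _ (Submodule.smul_mem _ _ hb₀W) (by
      rw [QuadraticMap.polar_smul_right, hv'b, smul_zero])

end CfsgLib.KnownA.O7ThreeSchur
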