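import Cfsg.Agent.Lib.KnownA.O7ThreeSchur.CommU
import Cfsg.Agent.Lib.KnownA.OrthIndex

/-!
Six Siegel transformations generate the group over three elements.
-/

set_option autoImplicit false
set_option linter.unusedSectionVars false

namespace CfsgLib.KnownA.O7ThreeSchur

open CfsgLib.Geom CfsgLib.Classical CfsgLib.KnownA.OrthGeom CfsgLib.KnownA.OrthLift
  CfsgLib.KnownA.OrthPKills
open QuadraticMap (polar)

universe u

variable {F V : Type*} [Field F] [Finite F] [AddCommGroup V] [Module F V] [FiniteDimensional F V]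
variable {Q : QuadraticForm F V} {Γ : Type u} [Group Γ] [Finite Γ] (S : SLift Q Γ)
  (hnat : ∀ t : F, ∃ n : ℕ, (n : F) = t) {A : Frame Q} {e : V}

include hnat

theorem s_smul_mem (K : Subgroup Γ) {p w : V} (qp : Q p = 0) (hpw : polar Q p w = 0)
    (h : S.s p w ∈ K) (r : F) : S.s p (r • w) ∈ K := by
  obtain ⟨n, rfl⟩ := hnat r
  induction n with
  | zero => rw [Nat.cast_zero, zero_smul, S.s_zero qp]; exact one_mem _
  | succ n ih =>
    rw [Nat.cast_succ, add_smul, one_smul,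
      S.add p _ w qp (by rw [QuadraticMap.polar_smul_right, hpw, smul_zero]) hpw]
    exact mul_mem ih h

/-- Two transformations give those inside the three-space. -/
theorem wu_mem (U : Unit0 Q A e) (hs1 : ∀ a b, ¬ (Q a = 0 ∧ polar Q a b = 0) → S.s a b = 1)
    (K : Subgroup Γ) (h1 : S.s A.v e ∈ K) (h2 : S.s A.v' e ∈ K) :
    ∀ a ∈ Wu A, ∀ b ∈ Wu A, S.s a b ∈ K := by
  intro a ha b hb
  by_cases hv : Q a = 0 ∧ polar Q a b = 0
  swap
  · rw [hs1 a b hv]; exact one_mem _
  obtain ⟨qa, hab⟩ := hv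
  have std : ∀ w w' : V, w' ∈ Wu A → Hyp Q w w' → polar Q w e = 0 → S.s w e ∈ K →
      (∀ z ∈ Wu A, ∃ α β γ : F, z = α • w + β • w' + γ • e) →
      ∀ b ∈ Wu A, polar Q w b = 0 → S.s w b ∈ K := by
    intro w w' _ hyp hwe hm hspan b hb hwb
    obtain ⟨α, β, γ, rfl⟩ := hspan b hb
    simp only [QuadraticMap.polar_add_right, QuadraticMap.polar_smul_right, hyp.xx, hyp.xy, hwe,
      smul_eq_mul, mul_zero, mul_one, add_zero, zero_add] at hwb
    subst hwb
    rw [zero_smul, add_zero, S.add w _ _ hyp.qx (by rw [QuadraticMap.polar_smul_right, hyp.xx, smul_zero])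
      (by rw [QuadraticMap.polar_smul_right, hwe, smul_zero]), S.self α w hyp.qx, one_mul]
    exact s_smul_mem S hnat K hyp.qx hwe hm γ
  have stdv := fun b hb h => std A.v A.v' (v'_mem hnat U) A.Puv.huu U.ev h1 U.span b hb h
  have stdv' := fun b hb h => std A.v' A.v (v_mem hnat U) A.Puv.huu.symm U.ev' h2 (fun z hz => by
    obtain ⟨α, β, γ, rfl⟩ := U.span z hz
    exact ⟨β, α, γ, by abel⟩) b hb h
  obtain ⟨α, β, γ, rfl⟩ := U.span a ha
  have hq : α * β + γ * γ = 0 := by
    have h := qa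
    simp only [quad_map_add_smul, quad_smul, QuadraticMap.polar_add_left, QuadraticMap.polar_smul_left,
      U.ev, U.ev', A.Puv.huu.qx, A.Puv.huu.qy, U.q, A.Puv.huu.xy, smul_eq_mul] at h
    linear_combination h
  by_cases hβ : β = 0
  · subst hβ
    obtain rfl : γ = 0 := by simpa using hq
    rw [zero_smul, zero_smul, add_zero, add_zero] at hab ⊢
    by_cases hα : α = 0
    · subst hα
      have h := S.smul 0 0 b (QuadraticMap.map_zero Q) (QuadraticMap.polar_zero_left Q b)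
      rw [zero_smul, zero_smul, S.s_zero (QuadraticMap.map_zero Q)] at h
      rw [zero_smul, h]
      exact one_mem _
    · have hvb : polar Q A.v b = 0 := by
        rw [QuadraticMap.polar_smul_left, smul_eq_mul, mul_eq_zero] at hab
        exact hab.resolve_left hα
      rw [S.smul α A.v b A.Puv.huu.qx hvb]
      exact stdv _ (Submodule.smul_mem _ _ hb) (by rw [QuadraticMap.polar_smul_right, hvb, smul_zero])
  · set h : Γ := S.s A.v ((γ / β) • e) with hh
    have hvg : polar Q A.v ((γ / β) • e) = 0 := by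
      rw [QuadraticMap.polar_smul_right, U.ev, smul_zero]
    have hhK : h ∈ K := s_smul_mem S hnat K A.Puv.huu.qx U.ev h1 _
    have ha' : S.act h (β • A.v') = α • A.v + β • A.v' + γ • e := by
      rw [map_smul, hh, S.act_s A.Puv.huu.qx hvg, A.Puv.huu.xy, one_smul,
        QuadraticMap.polar_smul_left, quad_smul, U.q, QuadraticMap.polar_comm _ e A.v', U.ev']
      simp only [smul_eq_mul]
      match_scalars <;> field_simp
      linear_combination -hq
    set b₀ := S.act h⁻¹ b with hb₀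
    have hb₀' : S.act h b₀ = b := S.act_act_inv h b
    have hb₀W : b₀ ∈ Wu A := by
      rw [hb₀, hh, ← S.s_neg A.Puv.huu.qx hvg, S.act_s A.Puv.huu.qx (by
        rw [QuadraticMap.polar_neg_right, hvg, neg_zero])]
      exact sub_mem (add_mem hb (Submodule.smul_mem _ _ (neg_mem (Submodule.smul_mem _ _ (e_mem hnat U)))))
        (Submodule.smul_mem _ _ (v_mem hnat U))
    have hv'b : polar Q A.v' b₀ = 0 := by
      have : polar Q (β • A.v') b₀ = 0 := by rw [← S.polar_act h, hb₀', ha', hab]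
      rw [QuadraticMap.polar_smul_left, smul_eq_mul, mul_eq_zero] at this
      exact this.resolve_left hβ
    rw [← ha', ← hb₀', ← S.conj', S.smul β A.v' b₀ A.Puv.huu.qy hv'b]
    exact mul_mem (mul_mem hhK (stdv' _ (Submodule.smul_mem _ _ hb₀W)
      (by rw [QuadraticMap.polar_smul_right, hv'b, smul_zero]))) (inv_mem hhK)

/-- Generation by six transformations. -/
theorem eq_top_of_six (U : Unit0 Q A e)
    (hspan : ∀ w ∈ Wv A, ∃ α β γ : F, w = α • A.u + β • A.u' + γ • e)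
    (hgen : Subgroup.closure (Set.range fun v : V × V => S.s v.1 v.2) = ⊤)
    (hs1 : ∀ a b, ¬ (Q a = 0 ∧ polar Q a b = 0) → S.s a b = 1) (K : Subgroup Γ)
    (h1 : S.s A.v e ∈ K) (h2 : S.s A.v' e ∈ K) (h3 : S.s A.u e ∈ K) (h4 : S.s A.u' e ∈ K)
    (h5 : S.s A.x A.u' ∈ K) (h6 : S.s A.y A.u ∈ K) : K = ⊤ := by
  have U' : Unit0 Q (OrthPKills.swapUV A) e := ⟨U.q, U.ex, U.ey, U.ev, U.ev', U.eu, U.eu', hspan⟩
  have hgW : gW S A ≤ K :=
    gW_le S A hs1 K (wu_mem S hnat U hs1 K h1 h2) (wu_mem S hnat U' hs1 K h3 h4)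
  have hx : ∀ w ∈ W A, S.s A.x w ∈ K := by
    intro w hw
    refine singular_induction (X := W A) A.P.u_mem A.P.u'_mem A.P.huu (P := fun w => S.s A.x w ∈ K)
      (fun v hv z hz k1 k2 => ?_) (fun v hv qv => ?_) hw
    · rw [S.add _ _ _ A.P.hxy.qx (unip_perp A hv) (unip_perp A hz)]
      exact mul_mem k1 k2
    · by_cases v0 : v = 0
      · rw [v0, S.s_zero A.P.hxy.qx]; exact one_mem _
      obtain ⟨γ, hγ, hγe⟩ := gW_transitive S A A.P.u'_mem hv A.P.huu.qy qv A.P.huu.symm.ne_zero v0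
      rw [← hγe, ← gW_fix_x S A hγ, ← S.conj']
      exact mul_mem (mul_mem (hgW hγ) h5) (inv_mem (hgW hγ))
  have hn : ∀ t : F, S.n A.x A.y A.u A.u' t ∈ K := fun t =>
    mul_mem (mul_mem (s_smul_mem S hnat K A.P.hxy.qx A.P.xu' h5 _)
      (s_smul_mem S hnat K A.P.hxy.qy A.P.yu h6 _)) (s_smul_mem S hnat K A.P.hxy.qx A.P.xu' h5 _)
  rw [eq_top_iff, ← genSub_eq_top S A hgen hs1]
  refine sup_le ?_ (Subgroup.zpowers_le.2 (hn 1))
  rintro _ ⟨w, hw, _, ⟨m, hm, t, _, rfl⟩, rfl⟩
  exact mul_mem (hx w hw) (mul_mem (hgW hm) (mul_mem (hn t) (inv_mem (hn 1))))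

end CfsgLib.KnownA.O7ThreeSchur
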