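import Cfsg.Agent.Lib.KnownA.O7ThreeSchur.Bound
import Cfsg.Agent.Lib.KnownA.O7ThreeSchur.Cert

/-!
The generators act on vectors as the tabulated maps on digit codes.
-/

set_option autoImplicit false
set_option linter.unusedSectionVars false

namespace CfsgLib.KnownA.O7ThreeSchur

open CfsgLib.Geom CfsgLib.Classical CfsgLib.KnownA.OrthGeom CfsgLib.KnownA.OrthLift
  CfsgLib.KnownA.OrthPKills CfsgLib.KnownA.OrthStd
open QuadraticMap (polar)

universe u

variable {F : Type u} [Field F] [Fintype F] [CharP F 3]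

/-- The vector of seven digits. -/
def vecOf (c : ℕ) : V7 F :=
  Sum.elim (fun _ => (dig c 0 : F))
    (Sum.elim (fun i => (dig c (1 + (i : ℕ)) : F)) (fun i => (dig c (4 + (i : ℕ)) : F)))

theorem cast_mod3 (a : ℕ) : ((a % 3 : ℕ) : F) = (a : F) := (CharP.cast_eq_mod F 3 a).symm

theorem dig_mkc (a b c d e f g : ℕ) : dig (mkc a b c d e f g) 0 = a % 3 ∧ dig (mkc a b c d e f g) 1 = b % 3 ∧
    dig (mkc a b c d e f g) 2 = c % 3 ∧ dig (mkc a b c d e f g) 3 = d % 3 ∧
    dig (mkc a b c d e f g) 4 = e % 3 ∧ dig (mkc a b c d e f g) 5 = f % 3 ∧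
    dig (mkc a b c d e f g) 6 = g % 3 := by
  simp only [dig, mkc]
  norm_num
  omega

theorem vecOf_mkc (a b c d e f g : ℕ) : (vecOf (mkc a b c d e f g) : V7 F) =
    Sum.elim (fun _ => (a : F)) (Sum.elim ![(b : F), (c : F), (d : F)] ![(e : F), (f : F), (g : F)]) := by
  obtain ⟨h0, h1, h2, h3, h4, h5, h6⟩ := dig_mkc a b c d e f g
  funext i
  rcases i with ⟨⟩ | i | i
  · simp [vecOf, h0, cast_mod3]
  · fin_cases i <;> simp [vecOf, h1, h2, h3, cast_mod3]
  · fin_cases i <;> simp [vecOf, h4, h5, h6, cast_mod3]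

theorem vecOf_negc (c : ℕ) : (vecOf (negc c) : V7 F) = (2 : F) • vecOf c := by
  rw [negc, vecOf_mkc]
  funext i
  rcases i with ⟨⟩ | i | i
  · simp [vecOf]
  · fin_cases i <;> simp [vecOf]
  · fin_cases i <;> simp [vecOf]

/-- The six generators. -/
noncomputable def genV (h2 : (2 : F) ≠ 0) : Fin 6 → V7 F × V7 F :=
  ![((frameOdd h2 0).v, e0), ((frameOdd h2 0).v', e0), ((frameOdd h2 0).u, e0),
    ((frameOdd h2 0).u', e0), ((frameOdd h2 0).x, (frameOdd h2 0).u'),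
    ((frameOdd h2 0).y, (frameOdd h2 0).u)]

theorem genV_orth (h2 : (2 : F) ≠ 0) (k : Fin 6) :
    qfOdd 3 F (genV h2 k).1 = 0 ∧ polar (qfOdd 3 F) (genV h2 k).1 (genV h2 k).2 = 0 := by
  have U := unit0 (F := F) h2
  have A := frameOdd (F := F) h2 0
  fin_cases k
  exacts [⟨(frameOdd h2 0).Puv.huu.qx, U.ev⟩, ⟨(frameOdd h2 0).Puv.huu.qy, U.ev'⟩,
    ⟨(frameOdd h2 0).Puv.hxy.qx, U.eu⟩, ⟨(frameOdd h2 0).Puv.hxy.qy, U.eu'⟩,
    ⟨(frameOdd h2 0).P.hxy.qx, (frameOdd h2 0).P.xu'⟩, ⟨(frameOdd h2 0).P.hxy.qy, (frameOdd h2 0).P.yu⟩]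

/-- The generators act as the tables say. -/
theorem siegel_vecOf (h2 : (2 : F) ≠ 0) (k : Fin 6) (c : ℕ) :
    (siegel (qfOdd 3 F) (genV h2 k).1 (genV h2 k).2).1 (vecOf c) = vecOf (mv k c) := by
  obtain ⟨hq, hp⟩ := genV_orth h2 k
  rw [siegel_apply _ hq hp]
  have h3 : (3 : F) = 0 := by exact_mod_cast CharP.cast_eq_zero F 3
  have hneg : (2 : F) = -1 := by linear_combination h3
  fin_cases k <;>
  · simp only [mv, CfsgLib.Chev.nth_eq, Nat.reduceMod, List.getD_cons_zero, List.getD_cons_succ,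
      mv0, mv1, mv2, mv3, mv4, mv5, vecOf_mkc]
    funext i
    rcases i with ⟨⟩ | i | i
    · simp [genV, frameOdd, HypFam.frame, famOdd, e0, polar_qfOdd, qfOdd_apply, Cfsg.quadFormOdd,
        vecOf, Pi.single_apply, Fin.sum_univ_three, hneg]
      try ring_nf
    · fin_cases i <;>
        simp [genV, frameOdd, HypFam.frame, famOdd, e0, polar_qfOdd, qfOdd_apply, Cfsg.quadFormOdd,
          vecOf, Pi.single_apply, Fin.sum_univ_three, hneg] <;>
        (try ring_nf)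
    · fin_cases i <;>
        simp [genV, frameOdd, HypFam.frame, famOdd, e0, polar_qfOdd, qfOdd_apply, Cfsg.quadFormOdd,
          vecOf, Pi.single_apply, Fin.sum_univ_three, hneg] <;>
        (try ring_nf)

theorem vecOf_inj {a b : ℕ} (ha : a < 2187) (hb : b < 2187) (h : (vecOf a : V7 F) = vecOf b) : a = b := by
  have key : ∀ x y : ℕ, ((x % 3 : ℕ) : F) = ((y % 3 : ℕ) : F) → x % 3 = y % 3 := fun x y e => by
    have := (CharP.natCast_eq_natCast F 3).1 e
    simpa [Nat.ModEq] using this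
  have h0 := key _ _ (congrFun h (.inl ()))
  have h1 := key _ _ (congrFun h (.inr (.inl 0)))
  have h2 := key _ _ (congrFun h (.inr (.inl 1)))
  have h3 := key _ _ (congrFun h (.inr (.inl 2)))
  have h4 := key _ _ (congrFun h (.inr (.inr 0)))
  have h5 := key _ _ (congrFun h (.inr (.inr 1)))
  have h6 := key _ _ (congrFun h (.inr (.inr 2)))
  norm_num at h0 h1 h2 h3 h4 h5 h6
  omega

end CfsgLib.KnownA.O7ThreeSchur
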