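import Cfsg.Agent.Lib.KnownA.O7ThreeSchur.Checks
import Cfsg.Agent.Lib.KnownA.O7ThreeSchur.Vectors
import Cfsg.Agent.Lib.KnownA.O7ThreeSchur.Generate

/-!
The threefold cover: pairs of an element of the orthogonal group and a permutation of the 1134
states moving the lines alike and keeping the relative labels.
-/

set_option autoImplicit false
set_option linter.unusedSectionVars false
set_option maxRecDepth 100000

namespace CfsgLib.KnownA.O7ThreeSchur

open CfsgLib.Geom CfsgLib.Classical CfsgLib.KnownA.OrthGeom CfsgLib.KnownA.OrthLift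
  CfsgLib.KnownA.OrthPKills CfsgLib.KnownA.OrthStd CfsgLib.Chev
open QuadraticMap (polar)
open scoped commutatorElement

universe u

theorem shift_lt {d s : ℕ} (hs : s < 1134) : shift d s < 1134 := by simp only [shift]; omega

theorem shift_shift (a b s : ℕ) : shift a (shift b s) = shift (a + b) s := by simp only [shift]; omega

theorem act_eq (r s : ℕ) : act r s = shift (s % 3) (fld r (s / 3)) := by rw [act, force_eq, force_eq]

theorem act_shift (d r s : ℕ) : act r (shift d s) = shift d (act r s) := by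
  rw [act_eq, act_eq, shift_shift, show shift d s / 3 = s / 3 by simp only [shift]; omega,
    show shift d s % 3 = (s % 3 + d) % 3 by simp only [shift]; omega]
  simp only [shift]; omega

theorem gen_ok (k : Fin 6) : genOK k = true := by
  fin_cases k
  exacts [gen0, gen1, gen2, gen3, gen4, gen5]

theorem edge_ok (k : Fin 6) : edgeOK k = true := by
  fin_cases k
  exacts [edge0, edge1, edge2, edge3, edge4, edge5]

/-- The line of a point. -/
noncomputable def line (i : ℕ) : ℕ := nth 0 lines i

/-- The row of a point. -/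
noncomputable def row (i : ℕ) : ℕ := nth 0 rows i

theorem gen_facts (k : Fin 6) {i : ℕ} (hi : i < 378) :
    fld k i < 1134 ∧ act k (act k (act k (3 * i))) = 3 * i ∧
      (mv k (line i) = line (fld k i / 3) ∨ mv k (line i) = negc (line (fld k i / 3))) := by
  have h := allR_upto (gen_ok k) hi
  simp only [force_eq, Bool.and_eq_true, Bool.or_eq_true, Nat.blt_eq, Nat.beq_eq] at h
  exact ⟨h.1.1, h.1.2, h.2⟩

theorem act_lt (k : Fin 6) {s : ℕ} (hs : s < 1134) : act k s < 1134 := by
  rw [act_eq]; exact shift_lt (gen_facts k (by omega)).1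

theorem act_three (k : Fin 6) {s : ℕ} (hs : s < 1134) : act k (act k (act k s)) = s := by
  obtain ⟨-, h, -⟩ := gen_facts k (show s / 3 < 378 by omega)
  have e : s = shift (s % 3) (3 * (s / 3)) := by simp only [shift]; omega
  conv_lhs => rw [e, act_shift, act_shift, act_shift, h]
  exact e.symm

/-- The states. -/
abbrev St : Type := Fin 1134

/-- A generator as a permutation of the states. -/
noncomputable def genP (k : Fin 6) : Equiv.Perm St where
  toFun s := ⟨act k s, act_lt k s.2⟩
  invFun s := ⟨act k (act k s), act_lt k (act_lt k s.2)⟩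
  left_inv s := Fin.ext (act_three k s.2)
  right_inv s := Fin.ext (act_three k s.2)

/-- The change of all labels by one. -/
def zP : Equiv.Perm St where
  toFun s := ⟨shift 1 s, shift_lt s.2⟩
  invFun s := ⟨shift 2 s, shift_lt s.2⟩
  left_inv s := Fin.ext (show shift 2 (shift 1 s) = s by simp only [shift]; omega)
  right_inv s := Fin.ext (show shift 1 (shift 2 s) = s by simp only [shift]; omega)

theorem zP_pow (k : ℕ) (s : St) : (((zP ^ k) s : St) : ℕ) = shift k s := by
  induction k with
  | zero => simp only [pow_zero, Equiv.Perm.one_apply, shift]; omega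
  | succ k ih =>
    rw [pow_succ', Equiv.Perm.mul_apply]
    show shift 1 ((zP ^ k) s : St) = _
    rw [ih, shift_shift, add_comm]

theorem zP_cube : zP ^ 3 = 1 :=
  Equiv.ext fun s => Fin.ext ((zP_pow 3 s).trans (by simp only [shift, Equiv.Perm.one_apply]; omega))

theorem zP_ne : zP ≠ 1 := fun h =>
  absurd (congrArg (fun g : Equiv.Perm St => ((g (0 : St) : St) : ℕ)) h) (by show ¬ shift 1 0 = 0; decide)

/-- Two states with the tabulated relative label. -/
def Rel (s t : St) : Prop :=
  rel (row ((s : ℕ) / 3)) ((t : ℕ) / 3) ≠ 3 ∧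
    (t : ℕ) % 3 = ((s : ℕ) % 3 + rel (row ((s : ℕ) / 3)) ((t : ℕ) / 3)) % 3

theorem rel_genP (k : Fin 6) (s t : St) : Rel (genP k s) (genP k t) ↔ Rel s t := by
  have hs : (s : ℕ) / 3 < 378 := by omega
  have ht : (t : ℕ) / 3 < 378 := by omega
  have h := allR_upto (edge_ok k) hs
  simp only [force_eq] at h
  have h' := allR_upto h ht
  simp only [force_eq, Nat.beq_eq] at h'
  have e1 : ((genP k s : St) : ℕ) = shift ((s : ℕ) % 3) (fld k ((s : ℕ) / 3)) := act_eq k s
  have e2 : ((genP k t : St) : ℕ) = shift ((t : ℕ) % 3) (fld k ((t : ℕ) / 3)) := act_eq k t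
  simp only [Rel, e1, e2, row]
  have q1 : ∀ a c, shift a c / 3 = c / 3 := fun a c => by simp only [shift]; omega
  have q2 : ∀ a c, shift a c % 3 = (c % 3 + a) % 3 := fun a c => by simp only [shift]; omega
  rw [q1, q1, q2, q2, h']
  set d := rel (nth 0 rows ((s : ℕ) / 3)) ((t : ℕ) / 3) with hd
  have hd4 : d < 4 := Nat.mod_lt _ (by norm_num)
  by_cases h3 : d = 3
  · simp [h3]
  · rw [show Nat.beq d 3 = false by rw [← Bool.not_eq_true, Nat.beq_eq]; exact h3, cond_false]
    constructor
    · rintro ⟨-, h⟩; exact ⟨h3, by omega⟩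
    · rintro ⟨-, h⟩; exact ⟨by omega, by omega⟩

theorem rel_zP (s t : St) : Rel (zP s) (zP t) ↔ Rel s t := by
  have e1 : ((zP s : St) : ℕ) = shift 1 s := rfl
  have e2 : ((zP t : St) : ℕ) = shift 1 t := rfl
  simp only [Rel, e1, e2]
  rw [show shift 1 (s : ℕ) / 3 = (s : ℕ) / 3 by simp only [shift]; omega,
    show shift 1 (t : ℕ) / 3 = (t : ℕ) / 3 by simp only [shift]; omega]
  have : rel (row ((s : ℕ) / 3)) ((t : ℕ) / 3) < 4 := Nat.mod_lt _ (by norm_num)
  simp only [shift]
  omega

variable {F : Type u} [Field F] [Fintype F] [CharP F 3]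

/-- The group downstairs. -/
abbrev G7 (F : Type u) [Field F] : Type u := ↥(siegelGroup (qfOdd 3 F))

/-- The permutation moves the lines as the element does. -/
def MovesLines (γ : G7 F) (w : Equiv.Perm St) : Prop :=
  ∀ s : St, ∃ r : F, r ≠ 0 ∧ γ.1.1 (vecOf (line ((s : ℕ) / 3))) = r • vecOf (line (((w s : St) : ℕ) / 3))

/-- The cover. -/
noncomputable def cover (F : Type u) [Field F] [Fintype F] [CharP F 3] : Subgroup (G7 F × Equiv.Perm St) where
  carrier := {p | MovesLines p.1 p.2 ∧ (∀ s t, Rel (p.2 s) (p.2 t) ↔ Rel s t) ∧ Commute p.2 zP}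
  one_mem' := ⟨fun s => ⟨1, one_ne_zero, by simp⟩, fun s t => Iff.rfl, Commute.one_left _⟩
  mul_mem' := by
    rintro ⟨γ, w⟩ ⟨δ, x⟩ ⟨h1, h2, h3⟩ ⟨k1, k2, k3⟩
    refine ⟨fun s => ?_, fun s t => (h2 _ _).trans (k2 s t), Commute.mul_left h3 k3⟩
    obtain ⟨r, r0, hr⟩ := k1 s
    obtain ⟨q, q0, hq⟩ := h1 (x s)
    refine ⟨r * q, mul_ne_zero r0 q0, ?_⟩
    show γ.1.1 (δ.1.1 _) = (r * q) • vecOf (line (((w (x s) : St) : ℕ) / 3))
    rw [hr, map_smul, hq, smul_smul]
  inv_mem' := by
    rintro ⟨γ, w⟩ ⟨h1, h2, h3⟩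
    refine ⟨fun s => ?_, fun s t => ?_, Commute.inv_left h3⟩
    · obtain ⟨r, r0, hr⟩ := h1 (w⁻¹ s)
      rw [Equiv.Perm.coe_inv, Equiv.apply_symm_apply] at hr
      refine ⟨r⁻¹, inv_ne_zero r0, ?_⟩
      show γ.1.1.symm _ = r⁻¹ • vecOf (line (((w.symm s : St) : ℕ) / 3))
      rw [LinearEquiv.symm_apply_eq, map_smul, hr, inv_smul_smul₀ r0]
    · have := h2 (w⁻¹ s) (w⁻¹ t)
      simp only [Equiv.Perm.coe_inv, Equiv.apply_symm_apply] at this
      exact this.symm

/-- The projection. -/
noncomputable def proj3 : cover F →* G7 F := (MonoidHom.fst _ _).comp (cover F).subtype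

/-- The generators downstairs. -/
noncomputable def genG (h2 : (2 : F) ≠ 0) (k : Fin 6) : G7 F :=
  (idLift (qfOdd 3 F)).s (genV h2 k).1 (genV h2 k).2

theorem gen_mem (h2 : (2 : F) ≠ 0) (k : Fin 6) : (genG h2 k, genP k) ∈ cover F := by
  refine ⟨fun s => ?_, rel_genP k, Equiv.ext fun s => Fin.ext (act_shift 1 k s)⟩
  obtain ⟨-, -, h⟩ := gen_facts k (show (s : ℕ) / 3 < 378 by omega)
  have e : ((genP k s : St) : ℕ) / 3 = fld k ((s : ℕ) / 3) / 3 := by
    show act k s / 3 = _
    rw [act_eq]; simp only [shift]; omega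
  have hv : (genG h2 k).1.1 (vecOf (line ((s : ℕ) / 3))) = vecOf (mv k (line ((s : ℕ) / 3))) :=
    siegel_vecOf h2 k _
  show ∃ r : F, r ≠ 0 ∧ (genG h2 k).1.1 _ = r • vecOf (line (((genP k s : St) : ℕ) / 3))
  rw [e, hv]
  rcases h with h | h
  · exact ⟨1, one_ne_zero, by rw [h, one_smul]⟩
  · exact ⟨2, h2, by rw [h, vecOf_negc]⟩

theorem proj3_surj (hnat : ∀ t : F, ∃ n : ℕ, (n : F) = t) : Function.Surjective (proj3 (F := F)) := by
  rw [← MonoidHom.range_eq_top]
  have h2 : (2 : F) ≠ 0 := two_ne
  have hm : ∀ k, genG h2 k ∈ (proj3 (F := F)).range := fun k => ⟨⟨_, gen_mem h2 k⟩, rfl⟩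
  exact eq_top_of_six (idLift (qfOdd 3 F)) hnat (unit0 h2) (span_v h2) idLift_gen idLift_invalid _
    (hm 0) (hm 1) (hm 2) (hm 3) (hm 4) (hm 5)

theorem count_two {p : ℕ → Bool} : ∀ (l : List ℕ) (i k : ℕ), i < k → k < l.length →
    p (l.getD i 0) = true → p (l.getD k 0) = true → 2 ≤ l.countP p := by
  intro l
  induction l with
  | nil => intro i k _ hk; simp at hk
  | cons a l ih =>
    intro i k hik hk hi hk'
    obtain ⟨k, rfl⟩ : ∃ k', k = k' + 1 := ⟨k - 1, by omega⟩
    rw [List.getD_cons_succ] at hk'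
    rw [List.length_cons] at hk
    cases i with
    | zero =>
      rw [List.getD_cons_zero] at hi
      rw [List.countP_cons_of_pos hi]
      have : 0 < l.countP p := List.countP_pos_iff.2 ⟨l.getD k 0, by
        rw [List.getD_eq_getElem _ _ (show k < l.length by omega)]; exact List.getElem_mem _, hk'⟩
      omega
    | succ i =>
      rw [List.getD_cons_succ] at hi
      have := ih i k (by omega) (by omega) hi hk'
      rw [List.countP_cons]
      omega

theorem line_eq {i k : ℕ} (hi : i < 378) (hk : k < 378) (h : line k = line i ∨ line k = negc (line i)) :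
    i = k := by
  by_contra hne
  have hl := allR_upto lines_ok hi
  simp only [force_eq, Bool.and_eq_true, Nat.blt_eq, Nat.beq_eq] at hl
  set p : ℕ → Bool := fun a => Nat.beq a (nth 0 lines i) || Nat.beq a (negc (nth 0 lines i)) with hp
  have hc : ∀ l : List ℕ, (List.rec 0 (fun a _ ih => (bif p a then 1 else 0) + ih) l : ℕ) = l.countP p := by
    intro l
    induction l with
    | nil => rfl
    | cons a l ih =>
      show (bif p a then 1 else 0) + (List.rec 0 (fun a _ ih => (bif p a then 1 else 0) + ih) l : ℕ) = _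
      rw [List.countP_cons, ih]
      cases p a <;> simp [Nat.add_comm]
  have hlen : lines.length = 378 := by decide +kernel
  have pi : p (lines.getD i 0) = true := by simp [hp, nth_eq]
  have pk : p (lines.getD k 0) = true := by
    simp only [line, nth_eq] at h
    simp only [hp, nth_eq, Bool.or_eq_true, Nat.beq_eq]
    exact h
  have h2 : 2 ≤ lines.countP p := by
    rcases Nat.lt_or_gt_of_ne hne with h' | h'
    · exact count_two lines i k h' (hlen ▸ hk) pi pk
    · exact count_two lines k i h' (hlen ▸ hi) pk pi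
  rw [← hc, hl.2] at h2
  omega

/-- The generator of the kernel. -/
noncomputable def z3c : cover F :=
  ⟨(1, zP), fun s => ⟨1, one_ne_zero, by
    show vecOf _ = (1 : F) • vecOf (line (shift 1 (s : ℕ) / 3))
    rw [one_smul, show shift 1 (s : ℕ) / 3 = (s : ℕ) / 3 by simp only [shift]; omega]⟩, rel_zP, Commute.refl _⟩

theorem proj3_ker (hnat : ∀ t : F, ∃ n : ℕ, (n : F) = t) :
    (proj3 (F := F)).ker = Subgroup.zpowers z3c := by
  refine le_antisymm (fun p hp => ?_) (Subgroup.zpowers_le.2 rfl)
  obtain ⟨⟨γ, w⟩, hl, hr, hcz⟩ := p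
  obtain rfl : γ = 1 := hp
  -- the permutation fixes every line
  have hbase : ∀ s : St, ((w s : St) : ℕ) / 3 = (s : ℕ) / 3 := by
    intro s
    obtain ⟨r, r0, hs⟩ := hl s
    have hs' : vecOf (line ((s : ℕ) / 3)) = r • vecOf (F := F) (line (((w s : St) : ℕ) / 3)) := hs
    have hi : ((w s : St) : ℕ) / 3 < 378 := by omega
    refine line_eq hi (by omega) ?_
    have hlt : ∀ i < 378, line i < 2187 := fun i hi => by
      have hl := allR_upto lines_ok hi
      simp only [force_eq, Bool.and_eq_true, Nat.blt_eq] at hl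
      exact hl.1
    have hneg : negc (line (((w s : St) : ℕ) / 3)) < 2187 := by simp only [negc, mkc]; omega
    obtain ⟨n, rfl⟩ := hnat r
    rw [← cast_mod3 (F := F) n] at hs' r0
    rcases show n % 3 = 0 ∨ n % 3 = 1 ∨ n % 3 = 2 by omega with h | h | h <;> rw [h] at hs' r0
    · exact absurd Nat.cast_zero r0
    · rw [Nat.cast_one, one_smul] at hs'
      exact Or.inl (vecOf_inj (hlt _ (by omega)) (hlt _ hi) hs')
    · rw [Nat.cast_two, ← vecOf_negc] at hs'
      exact Or.inr (vecOf_inj (hlt _ (by omega)) hneg hs')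
  -- the labels move alike along the tree
  have hshift : ∀ (k : ℕ) (a : St), ((w ((zP ^ k) a) : St) : ℕ) = shift k ((w a : St) : ℕ) := by
    intro k a
    have h := congrArg (fun g : Equiv.Perm St => ((g a : St) : ℕ)) ((Commute.pow_right hcz k).eq)
    simp only [Equiv.Perm.mul_apply] at h
    rw [h, zP_pow]
  let e := ((w (⟨0, by norm_num⟩ : St) : St) : ℕ) % 3
  have key : ∀ (i : ℕ), i < 378 → ∀ a : St, (a : ℕ) / 3 = i →
      ((w a : St) : ℕ) = shift e a := by
    intro i
    induction i using Nat.strong_induction_on with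
    | _ i ih =>
      intro hi a ha
      by_cases h0 : i = 0
      · have ea : a = (zP ^ ((a : ℕ) % 3)) (⟨0, by norm_num⟩ : St) :=
          Fin.ext (by rw [zP_pow]; simp only [shift]; omega)
        have h := hshift ((a : ℕ) % 3) ⟨0, by norm_num⟩
        rw [← ea] at h
        have := hbase (⟨0, by norm_num⟩ : St)
        simp only [shift] at h ⊢
        simp only [e]
        simp only [Fin.val_mk] at this
        omega
      have htree := allR_upto tree_ok hi
      simp only [force_eq, Bool.or_eq_true, Nat.beq_eq, h0, false_or, Bool.and_eq_true, Nat.blt_eq,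
        Bool.not_eq_true', ← Bool.not_eq_true] at htree
      obtain ⟨hp, hd⟩ := htree
      set p := nth 0 parents i
      set d := rel (nth 0 rows i) p with hdd
      set b : St := ⟨3 * p + ((a : ℕ) % 3 + d) % 3, by omega⟩ with hb
      have hbv : (b : ℕ) = 3 * p + ((a : ℕ) % 3 + d) % 3 := rfl
      have hb3 : (b : ℕ) / 3 = p := by rw [hbv]; omega
      have hrel : Rel a b := by
        simp only [Rel, row, ha, hb3]
        exact ⟨hd, by rw [hbv]; omega⟩
      have hw := (hr a b).2 hrel
      simp only [Rel, row, hbase, ha, hb3, ← hdd] at hw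
      have hwb := ih p hp (by omega) b hb3
      have hba := hbase a
      have hd4 : d < 4 := Nat.mod_lt _ (by norm_num)
      simp only [shift] at hwb ⊢
      omega
  refine Subgroup.mem_zpowers_iff.2 ⟨(e : ℤ), Subtype.ext (Prod.ext ?_ ?_)⟩
  · simp [z3c]
  · rw [zpow_natCast]
    show zP ^ e = w
    exact Equiv.ext fun s => Fin.ext ((zP_pow e s).trans (key _ (by omega) s rfl).symm)

theorem z3c_order : orderOf (z3c (F := F)) = 3 := by
  haveI : Fact (Nat.Prime 3) := ⟨Nat.prime_three⟩
  refine orderOf_eq_prime ?_ fun h => zP_ne (congrArg (fun p => (p.1).2) h)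
  exact Subtype.ext (Prod.ext (by simp [z3c]) (by simpa [z3c] using zP_cube))

end CfsgLib.KnownA.O7ThreeSchur
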