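import Cfsg.Agent.Lib.KnownA.O7ThreeSchur.Bound

/-!
Stem extensions over the seven-dimensional group over three elements have kernels of order dividing
six.
-/

set_option autoImplicit false
set_option linter.unusedSectionVars false

namespace CfsgLib.KnownA.O7ThreeSchur

open CfsgLib.Geom CfsgLib.Classical CfsgLib.KnownA.OrthGeom CfsgLib.KnownA.OrthLift
  CfsgLib.KnownA.OrthPKills CfsgLib.KnownA.CExt CfsgLib.KnownA.LGood CfsgLib.KnownA.OrthStd
  CfsgLib.KnownA.OrthBound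
open QuadraticMap (polar)
open scoped commutatorElement

universe u

section Quot

variable {G : Type u} [Group G] {Δ : Type u} [Group Δ] {σ : Δ →* G}
  (hσ : Cfsg.IsStemExtension σ) (M : Subgroup Δ) (hM : M ≤ σ.ker)
include hσ hM

theorem normal_of_le : M.Normal :=
  ⟨fun m hm x => by
    rw [Subgroup.mem_center_iff.1 (hσ.2.1 (hM hm)) x, mul_inv_cancel_right]; exact hm⟩

/-- Dividing a stem extension by part of its kernel. -/
theorem stem_quot [M.Normal] : Cfsg.IsStemExtension (QuotientGroup.lift M σ hM) := by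
  refine ⟨fun g => ?_, fun q hq => ?_, fun q hq => ?_⟩
  · obtain ⟨w, rfl⟩ := hσ.1 g
    exact ⟨QuotientGroup.mk' M w, rfl⟩
  · obtain ⟨w, rfl⟩ := QuotientGroup.mk'_surjective M q
    refine Subgroup.mem_center_iff.2 fun q' => ?_
    obtain ⟨w', rfl⟩ := QuotientGroup.mk'_surjective M q'
    rw [← map_mul, ← map_mul, Subgroup.mem_center_iff.1 (hσ.2.1 hq) w']
  · obtain ⟨w, rfl⟩ := QuotientGroup.mk'_surjective M q
    have h : Subgroup.map (QuotientGroup.mk' M) (commutator Δ) ≤ commutator (Δ ⧸ M) := by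
      rw [commutator_def, Subgroup.map_commutator, commutator_def]
      exact Subgroup.commutator_mono le_top le_top
    exact h (Subgroup.mem_map_of_mem _ (hσ.2.2 hq))

end Quot

variable {F : Type u} [Field F] [Fintype F] [CharP F 3]

/-- Stem extensions with kernels prime to three. -/
theorem coprime_card {Δ : Type u} [Group Δ] [Finite Δ] {σ : Δ →* siegelGroup (qfOdd 3 F)}
    (hσ : Cfsg.IsStemExtension σ) (hco : (Nat.card σ.ker).Coprime 3) : Nat.card σ.ker ∣ 2 := by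
  haveI : Fact (Nat.Prime 3) := ⟨Nat.prime_three⟩

  have h2 : (2 : F) ≠ 0 := two_ne
  have hperf : commutator Δ = ⊤ := by
    have hG : commutator (siegelGroup (qfOdd 3 F)) = ⊤ := perfect_siegelGroup (qfOdd_sep h2 3)
      (by rw [Module.finrank_fintype_fun_eq_card]; simp)
    rw [eq_top_iff]
    intro d _
    have : σ d ∈ (commutator Δ).map σ := by
      rw [commutator_def, Subgroup.map_commutator, Subgroup.map_top_of_surjective _ hσ.1,
        ← commutator_def, hG]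
      exact Subgroup.mem_top _
    obtain ⟨c, hc, e⟩ := this
    rw [← mul_inv_cancel_left c d]
    exact mul_mem hc (hσ.2.2 (by rw [MonoidHom.mem_ker, map_mul, map_inv, e, inv_mul_cancel]))
  set θ := (siegelGroup (qfOdd 3 F)).subtype.comp σ with hθ
  have hθk : θ.ker = σ.ker := by
    ext g
    rw [MonoidHom.mem_ker, MonoidHom.mem_ker, hθ, MonoidHom.comp_apply, Subgroup.coe_subtype,
      OneMemClass.coe_eq_one]
  have hco' : (Nat.card θ.ker).Coprime 3 := by rw [hθk]; exact hco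
  obtain ⟨S, hS, hsp⟩ := exists_sLift 3 θ (fun g hg => by
    obtain ⟨d, hd⟩ := hσ.1 ⟨g, hg⟩
    exact ⟨d, congrArg Subtype.val hd⟩) (hθk.le.trans hσ.2.1) hco'
  have hgen : Subgroup.closure (Set.range fun v : V7 F × V7 F => S.s v.1 v.2) = ⊤ := by
    set K := Subgroup.closure (Set.range fun v : V7 F × V7 F => S.s v.1 v.2)
    have hmap : siegelGroup (qfOdd 3 F) ≤ K.map θ := by
      unfold siegelGroup
      refine (Subgroup.closure_le _).2 ?_
      rintro _ ⟨v, rfl⟩
      exact ⟨S.s v.1 v.2, Subgroup.subset_closure ⟨v, rfl⟩, hS ▸ S.θs v.1 v.2⟩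
    rw [eq_top_iff, ← hperf, commutator_def, Subgroup.commutator_le]
    intro a _ b _
    obtain ⟨a', ha', ea⟩ := hmap (σ a).2
    obtain ⟨b', hb', eb⟩ := hmap (σ b).2
    have hka : a'⁻¹ * a ∈ σ.ker := by
      rw [← hθk, MonoidHom.mem_ker, map_mul, map_inv, ea]; exact inv_mul_cancel _
    have hkb : b'⁻¹ * b ∈ σ.ker := by
      rw [← hθk, MonoidHom.mem_ker, map_mul, map_inv, eb]; exact inv_mul_cancel _
    rw [← mul_inv_cancel_left a' a, ← mul_inv_cancel_left b' b,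
      comm_mul_ker_left (π := σ) ⟨hσ.1, hσ.2.1⟩ _ _ hka,
      comm_mul_ker_right (π := σ) ⟨hσ.1, hσ.2.1⟩ _ _ hkb, commutatorElement_def]
    exact mul_mem (mul_mem (mul_mem ha' hb') (inv_mem ha')) (inv_mem hb')
  have hd := sbound_odd 3 h2 1 Δ S hgen hsp (by rw [hS]; exact hco')
  rw [hS, hθk] at hd
  exact hd.trans (Nat.gcd_dvd_left _ _)

/-- The bound six. -/
theorem card_dvd_six (hnat : ∀ t : F, ∃ n : ℕ, (n : F) = t) {Δ : Type u} [Group Δ] [Finite Δ]
    {σ : Δ →* siegelGroup (qfOdd 3 F)} (hσ : Cfsg.IsStemExtension σ) : Nat.card σ.ker ∣ 6 := by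
  haveI : Fact (Nat.Prime 3) := ⟨Nat.prime_three⟩
  set c := Nat.card σ.ker
  set a := c.factorization 3
  set n' := c / 3 ^ a
  have hn' : ¬ 3 ∣ n' := Nat.not_dvd_ordCompl Nat.prime_three Nat.card_pos.ne'
  have hmul : 3 ^ a * n' = c := Nat.ordProj_mul_ordCompl_eq_self _ _
  let _ : CommGroup σ.ker :=
    { (inferInstance : Group σ.ker) with
      mul_comm := fun a b => Subtype.ext (Subgroup.mem_center_iff.1 (hσ.2.1 b.2) a) }
  let K1 : Subgroup σ.ker := (powMonoidHom (3 ^ a) : σ.ker →* σ.ker).ker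
  let K2 : Subgroup σ.ker := (powMonoidHom n' : σ.ker →* σ.ker).ker
  set M1 := K1.map σ.ker.subtype with hM1
  set M2 := K2.map σ.ker.subtype with hM2
  have l1 : M1 ≤ σ.ker := Subgroup.map_subtype_le _
  have l2 : M2 ≤ σ.ker := Subgroup.map_subtype_le _
  haveI := normal_of_le hσ M1 l1
  haveI := normal_of_le hσ M2 l2
  set σ1 := QuotientGroup.lift M1 σ l1
  set σ2 := QuotientGroup.lift M2 σ l2
  have mem1 : ∀ w : σ.ker, w ^ 3 ^ a = 1 → QuotientGroup.mk' M1 w.1 = 1 := fun w hw =>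
    (QuotientGroup.eq_one_iff _).2 ⟨w, hw, rfl⟩
  have mem2 : ∀ w : σ.ker, w ^ n' = 1 → QuotientGroup.mk' M2 w.1 = 1 := fun w hw =>
    (QuotientGroup.eq_one_iff _).2 ⟨w, hw, rfl⟩
  have hc : ∀ w : σ.ker, w ^ c = 1 := fun w => pow_card_eq_one'
  have h1 : Nat.card σ1.ker ∣ 2 := by
    refine coprime_card (stem_quot hσ M1 l1) ?_
    rw [Nat.coprime_comm, Nat.prime_three.coprime_iff_not_dvd]
    intro hd
    obtain ⟨⟨q, hq⟩, ho⟩ := exists_prime_orderOf_dvd_card' 3 hd
    obtain ⟨w, rfl⟩ := QuotientGroup.mk'_surjective M1 q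
    have hw : QuotientGroup.mk' M1 w ^ n' = 1 := by
      rw [← map_pow]
      exact mem1 ((⟨w, hq⟩ : σ.ker) ^ n') (by rw [← pow_mul, mul_comm, hmul, hc])
    refine hn' (ho ▸ orderOf_dvd_of_pow_eq_one (Subtype.ext hw))
  have h2 : Nat.card σ2.ker ∣ 3 := by
    have hs := stem_quot hσ M2 l2
    refine lext_card hnat σ2 ⟨⟨hs.1, hs.2.1⟩, inferInstance, ?_⟩ hs.2.2
    rintro ⟨q, hq⟩
    obtain ⟨w, rfl⟩ := QuotientGroup.mk'_surjective M2 q
    refine ⟨a, Subtype.ext ?_⟩
    show QuotientGroup.mk' M2 w ^ 3 ^ a = 1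
    rw [← map_pow]
    exact mem2 ((⟨w, hq⟩ : σ.ker) ^ 3 ^ a) (by rw [← pow_mul, hmul, hc])
  let f : σ.ker →* σ1.ker × σ2.ker :=
    { toFun := fun w => (⟨QuotientGroup.mk' M1 w.1, w.2⟩, ⟨QuotientGroup.mk' M2 w.1, w.2⟩)
      map_one' := Prod.ext (Subtype.ext (map_one _)) (Subtype.ext (map_one _))
      map_mul' := fun x y => Prod.ext (Subtype.ext (map_mul _ _ _)) (Subtype.ext (map_mul _ _ _)) }
  have hf : Function.Injective f := by
    rw [← MonoidHom.ker_eq_bot_iff, eq_bot_iff]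
    intro w hw
    have e1 : QuotientGroup.mk' M1 w.1 = 1 := congrArg (fun p => (p.1 : Δ ⧸ M1)) hw
    have e2 : QuotientGroup.mk' M2 w.1 = 1 := congrArg (fun p => (p.2 : Δ ⧸ M2)) hw
    obtain ⟨x, hx, hxw⟩ := (QuotientGroup.eq_one_iff _).1 e1
    obtain ⟨y, hy, hyw⟩ := (QuotientGroup.eq_one_iff _).1 e2
    obtain rfl : x = w := Subtype.ext hxw
    obtain rfl : y = x := Subtype.ext hyw
    have hg := pow_gcd_eq_one.2 ⟨(hx : y ^ 3 ^ a = 1), (hy : y ^ n' = 1)⟩
    rw [((Nat.prime_three.coprime_iff_not_dvd.2 hn').pow_left a).gcd_eq_one, pow_one] at hg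
    exact Subgroup.mem_bot.2 hg
  have := Subgroup.card_dvd_of_injective f hf
  rw [Nat.card_prod] at this
  exact this.trans (Nat.mul_dvd_mul h1 h2)

end CfsgLib.KnownA.O7ThreeSchur
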