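import Cfsg.Agent.Lib.KnownA.O7ThreeSchur.Cover
import Cfsg.Agent.Lib.KnownA.O7ThreeSchur.Six
import Cfsg.Agent.Lib.Coprime.SchurAbelian

/-!
The Schur multiplier of the seven-dimensional orthogonal group over three elements is cyclic of
order six.
-/

set_option autoImplicit false
set_option linter.unusedSectionVars false
set_option maxRecDepth 100000

namespace CfsgLib.KnownA.O7ThreeSchur

open CfsgLib.Geom CfsgLib.Classical CfsgLib.KnownA.OrthGeom CfsgLib.KnownA.OrthLift
  CfsgLib.KnownA.OrthPKills CfsgLib.KnownA.CExt CfsgLib.KnownA.OrthStd CfsgLib.KnownA.OrthSpin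
  CfsgLib.KnownA.OrthBound
open QuadraticMap (polar)
open scoped commutatorElement

universe u

variable {F : Type u} [Field F] [Fintype F] [CharP F 3]

theorem witness : act 4 (act 4 (act 0 (act 0 (act 4 (act 0 0))))) = 2 := by decide +kernel

theorem z3c_central : z3c (F := F) ∈ Subgroup.center (cover F) := by
  refine Subgroup.mem_center_iff.2 fun p => Subtype.ext (Prod.ext ?_ p.2.2.2.eq)
  show (p.1).1 * 1 = 1 * (p.1).1
  rw [mul_one, one_mul]

theorem z3c_commutator (hnat : ∀ t : F, ∃ n : ℕ, (n : F) = t) :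
    z3c (F := F) ∈ commutator (cover F) := by
  have h2 : (2 : F) ≠ 0 := two_ne
  set a : cover F := ⟨_, gen_mem h2 0⟩ with ha
  set c : cover F := ⟨_, gen_mem h2 4⟩ with hc
  have hk : ⁅c⁻¹, a⁻¹⁆ ∈ (proj3 (F := F)).ker := by
    have U := unit0 (F := F) h2
    have o : Orth (qfOdd 3 F) (frameOdd h2 0).v e0 (frameOdd h2 0).x (frameOdd h2 0).u' := by
      have := orth_of_mem hnat (A := frameOdd h2 0) (v_mem hnat U) (e_mem hnat U)
        (frameOdd h2 0).Puv.huu.qx U.ev 0 1
      simpa using this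
    have hcm : Commute (genG h2 0) (genG h2 4) := orth_comm (idLift (qfOdd 3 F)) o
    rw [MonoidHom.mem_ker, map_commutatorElement, map_inv, map_inv,
      commutatorElement_eq_one_iff_mul_comm]
    exact (hcm.symm.inv_inv).eq
  obtain ⟨k, hk'⟩ : ∃ k : ℕ, ⁅c⁻¹, a⁻¹⁆ = z3c ^ k := by
    rw [proj3_ker hnat] at hk
    obtain ⟨k, hk'⟩ := (isOfFinOrder_of_finite _).mem_powers_iff_mem_zpowers.2 hk
    exact ⟨k, hk'.symm⟩
  have hval : k % 3 = 2 := by
    have h := congrArg (fun p : cover F => (((p.1).2 (0 : St) : St) : ℕ)) hk'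
    have e : (((⁅c⁻¹, a⁻¹⁆ : cover F).1).2) = (genP 4)⁻¹ * (genP 0)⁻¹ * genP 4 * genP 0 := by
      simp [commutatorElement_def, a, c, mul_assoc]
    simp only [e, Subgroup.coe_pow, Prod.pow_snd] at h
    rw [show ((z3c (F := F) : cover F).1).2 = zP from rfl, zP_pow] at h
    have h' : act 4 (act 4 (act 0 (act 0 (act 4 (act 0 0))))) = shift k 0 := h
    rw [witness] at h'
    simp only [shift] at h'
    omega
  have hz : z3c (F := F) = ⁅c⁻¹, a⁻¹⁆ ^ 2 := by
    rw [hk', ← pow_mul, ← pow_mod_orderOf, z3c_order, show k * 2 % 3 = 1 by omega, pow_one]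
  rw [hz]
  exact pow_mem (Subgroup.commutator_mem_commutator (Subgroup.mem_top _) (Subgroup.mem_top _)) 2

/-- The spin group onto the group downstairs. -/
noncomputable abbrev projS (h2 : (2 : F) ≠ 0) : spin (qfOdd 3 F) →* G7 F :=
  OrthMult.proj' (qfOdd 3 F) (qfOdd_sep h2 3)

theorem seven : 7 ≤ Fintype.card (Unit ⊕ (Fin 3 ⊕ Fin 3)) := by simp

theorem projS_stem (h2 : (2 : F) ≠ 0) : Cfsg.IsStemExtension (projS (F := F) h2) :=
  ⟨OrthMult.proj'_surjective _ _ seven, OrthMult.ker_central' _ _,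
    (OrthMult.perfect_spin (qfOdd 3 F) (qfOdd_sep h2 3) seven).symm ▸ le_top⟩

theorem projS_card (h2 : (2 : F) ≠ 0) : Nat.card (projS (F := F) h2).ker = 2 := by
  haveI := finite_spin (qfOdd 3 F) (qfOdd_sep h2 3)
  haveI : Fact (Nat.Prime 3) := ⟨Nat.prime_three⟩
  have hco : (Nat.card (projS (F := F) h2).ker).Coprime 3 := by
    rw [OrthMult.proj'_ker_eq]
    exact ker_coprime (qfOdd 3 F) (qfOdd_sep h2 3) 3
  refine Nat.dvd_antisymm (coprime_card (projS_stem h2) hco) ?_
  set A := frameOdd (F := F) h2 0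
  set hQ := qfOdd_sep (F := F) h2 3
  set Q := qfOdd 3 F
  set z := (spinLift Q hQ).h A.x A.y A.u A.u' (-1) * (spinLift Q hQ).h A.x A.y A.u' A.u (-1)
  have hz : ((z.1 : (CliffordAlgebra Q)ˣ) : CliffordAlgebra Q) = -1 := val_z_neg hQ A.P
  have hzk : z ∈ (OrthMult.proj' Q hQ).ker := by
    rw [OrthMult.proj'_ker_eq]
    refine quadIsoms_ext Q fun v => ι_injective Q hQ ?_
    have := proj_spec Q hQ z v
    rw [hz, neg_one_mul, mul_neg_one, neg_inj] at this
    exact this.symm
  have h1 : orderOf (⟨z, hzk⟩ : (OrthMult.proj' Q hQ).ker) = 2 := by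
    refine orderOf_eq_prime (Subtype.ext (Subtype.ext (Units.ext ?_))) fun e => ?_
    · rw [pow_two]
      show ((z.1 * z.1 : (CliffordAlgebra Q)ˣ) : CliffordAlgebra Q) = 1
      rw [Units.val_mul, hz, neg_one_mul, neg_neg]
    · have e' : (-1 : CliffordAlgebra Q) = 1 := hz ▸ congrArg
        (fun w : (OrthMult.proj' Q hQ).ker => ((w.1.1 : (CliffordAlgebra Q)ˣ) : CliffordAlgebra Q)) e
      rw [← map_one (algebraMap F (CliffordAlgebra Q)), ← map_neg] at e'
      exact h2 (by linear_combination -(cliff_algebraMap_injective Q e'))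
  rw [← h1]
  exact orderOf_dvd_natCard _

/-- The sixfold cover. -/
noncomputable def cover6 (h2 : (2 : F) ≠ 0) : Subgroup (spin (qfOdd 3 F) × cover F) :=
  MonoidHom.eqLocus ((projS h2).comp (MonoidHom.fst _ _)) (proj3.comp (MonoidHom.snd _ _))

/-- The projection of the sixfold cover. -/
noncomputable def proj6 (h2 : (2 : F) ≠ 0) : cover6 (F := F) h2 →* G7 F :=
  ((projS h2).comp (MonoidHom.fst _ _)).comp (cover6 h2).subtype

theorem proj6_facts (hnat : ∀ t : F, ∃ n : ℕ, (n : F) = t) (h2 : (2 : F) ≠ 0) :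
    Cfsg.IsStemExtension (proj6 (F := F) h2) ∧ Nat.card (proj6 (F := F) h2).ker = 6 := by
  haveI := finite_spin (qfOdd 3 F) (qfOdd_sep h2 3)
  have s3 := proj3_surj (F := F) hnat
  have hS := projS_stem (F := F) h2
  have mem : ∀ (k : spin (qfOdd 3 F)) (m : cover F), (k, m) ∈ cover6 h2 ↔ projS h2 k = proj3 m :=
    fun _ _ => Iff.rfl
  have hsnd : Function.Surjective ((MonoidHom.snd _ _).comp (cover6 (F := F) h2).subtype) := fun m => by
    obtain ⟨k, hk⟩ := hS.1 (proj3 m)
    exact ⟨⟨(k, m), (mem k m).2 hk⟩, rfl⟩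
  have hfst : Function.Surjective ((MonoidHom.fst _ _).comp (cover6 (F := F) h2).subtype) := fun k => by
    obtain ⟨m, hm⟩ := s3 (projS h2 k)
    exact ⟨⟨(k, m), (mem k m).2 hm.symm⟩, rfl⟩
  have hker : ∀ p : cover6 (F := F) h2,
      p ∈ (proj6 h2).ker ↔ p.1.1 ∈ (projS h2).ker ∧ p.1.2 ∈ (proj3 (F := F)).ker := fun p =>
    ⟨fun h => ⟨h, ((mem _ _).1 p.2).symm.trans h⟩, fun h => h.1⟩
  refine ⟨⟨hS.1.comp hfst, fun p hp => ?_, fun p hp => ?_⟩, ?_⟩
  · obtain ⟨h1, h3⟩ := (hker p).1 hp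
    refine Subgroup.mem_center_iff.2 fun q => Subtype.ext (Prod.ext ?_ ?_)
    · exact Subgroup.mem_center_iff.1 (hS.2.1 h1) q.1.1
    · refine Subgroup.mem_center_iff.1 ?_ q.1.2
      rw [proj3_ker hnat] at h3
      exact (Subgroup.zpowers_le.2 z3c_central) h3
  · obtain ⟨h1, h3⟩ := (hker p).1 hp
    rw [proj3_ker hnat] at h3
    set C := commutator (cover6 (F := F) h2)
    have img : ∀ {M : Type u} [Group M] (f : cover6 (F := F) h2 →* M), Function.Surjective f →
        ∀ m ∈ commutator M, ∃ c ∈ C, f c = m := by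
      intro M _ f hf m hm
      have : C.map f = commutator M := by
        show (commutator _).map f = _
        rw [commutator_def, Subgroup.map_commutator, Subgroup.map_top_of_surjective _ hf, ← commutator_def]
      rw [← this] at hm
      exact hm
    -- the spin part
    obtain ⟨c, hc, hcv⟩ := img _ hfst p.1.1 (hS.2.2 h1)
    have hcv' : c.1.1 = p.1.1 := hcv
    have hck : c.1.2 ∈ Subgroup.zpowers (z3c (F := F)) := by
      rw [← proj3_ker hnat]
      exact ((mem _ _).1 c.2).symm.trans (by rw [hcv']; exact h1)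
    -- the part of order three
    obtain ⟨d, hd, hdv⟩ := img _ hsnd (c.1.2⁻¹ * p.1.2)
      (Subgroup.zpowers_le.2 (z3c_commutator hnat) (mul_mem (inv_mem hck) h3))
    have hdv' : d.1.2 = c.1.2⁻¹ * p.1.2 := hdv
    have hdk : d.1.1 ∈ (projS h2).ker := by
      refine ((mem _ _).1 d.2).trans ?_
      rw [hdv']
      have : c.1.2⁻¹ * p.1.2 ∈ (proj3 (F := F)).ker := by
        rw [proj3_ker hnat]; exact mul_mem (inv_mem hck) h3
      exact this
    have h4 : ∀ w : (cover6 (F := F) h2), w.1.2 ∈ Subgroup.zpowers (z3c (F := F)) → (w ^ 4).1.2 = w.1.2 := by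
      intro w hw
      obtain ⟨j, hj⟩ := Subgroup.mem_zpowers_iff.1 hw
      show w.1.2 ^ 4 = _
      have : (z3c (F := F)) ^ 3 = 1 := by
        have h := pow_orderOf_eq_one (z3c (F := F))
        rwa [z3c_order] at h
      rw [pow_succ', ← hj, ← zpow_natCast, ← zpow_mul, mul_comm j, zpow_mul, zpow_natCast, this, one_zpow,
        mul_one]
    have hcard := projS_card (F := F) h2
    have h24 : (d ^ 4).1.1 = 1 := by
      show d.1.1 ^ 4 = 1
      have h := pow_card_eq_one' (x := (⟨d.1.1, hdk⟩ : (projS (F := F) h2).ker))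
      rw [hcard] at h
      have h' : d.1.1 ^ 2 = 1 := congrArg Subtype.val h
      rw [show 4 = 2 * 2 by norm_num, pow_mul, h', one_pow]
    have hd4 : (d ^ 4).1.2 = c.1.2⁻¹ * p.1.2 := by
      rw [h4 d (by rw [hdv']; exact mul_mem (inv_mem hck) h3), hdv']
    have : p = c * d ^ 4 := Subtype.ext (Prod.ext
      (by show p.1.1 = c.1.1 * (d ^ 4).1.1; rw [h24, mul_one, hcv'])
      (by show p.1.2 = c.1.2 * (d ^ 4).1.2; rw [hd4, mul_inv_cancel_left]))
    rw [this]
    exact mul_mem hc (pow_mem hd 4)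
  · let i : (proj6 (F := F) h2).ker ≃ (projS (F := F) h2).ker × (proj3 (F := F)).ker :=
      { toFun := fun p => (⟨p.1.1.1, ((hker p.1).1 p.2).1⟩, ⟨p.1.1.2, ((hker p.1).1 p.2).2⟩)
        invFun := fun q => ⟨⟨(q.1.1, q.2.1), (mem _ _).2 (q.1.2.trans q.2.2.symm)⟩, q.1.2⟩
        left_inv := fun p => rfl
        right_inv := fun q => rfl }
    rw [Nat.card_congr i, Nat.card_prod, projS_card, proj3_ker hnat, Nat.card_zpowers, z3c_order]

theorem cyclic_of_dvd_six {A : Type*} [Group A] [Finite A] (hc : ∀ a b : A, a * b = b * a)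
    (h : Nat.card A ∣ 6) : IsCyclic A := by
  let _ : CommGroup A := { (inferInstance : Group A) with mul_comm := hc }
  haveI : IsZGroup A := IsZGroup.of_squarefree (Squarefree.squarefree_of_dvd h (by
    rw [show 6 = 2 * 3 by norm_num, Nat.squarefree_mul (by norm_num)]
    exact ⟨Nat.prime_two.squarefree, Nat.prime_three.squarefree⟩))
  exact inferInstance

theorem hasCyclicSchurMultiplier_pOmega_seven (hF : Fintype.card F = 3) :
    Cfsg.HasCyclicSchurMultiplier (Cfsg.POmega F (Cfsg.quadFormOdd 3 F)) 6 := by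
  haveI : Fact (Nat.Prime 3) := ⟨Nat.prime_three⟩
  let e : ZMod 3 ≃+* F := ZMod.ringEquivOfPrime F Nat.prime_three hF
  have hnat : ∀ t : F, ∃ n : ℕ, (n : F) = t := fun t =>
    ⟨(e.symm t).val, by rw [← map_natCast e, ZMod.natCast_zmod_val, RingEquiv.apply_symm_apply]⟩
  have h2 : (2 : F) ≠ 0 := two_ne
  rw [← qfOdd_coe]
  set Q := qfOdd 3 F with hQd
  have hQ := qfOdd_sep (F := F) h2 3
  have h5 : 5 ≤ Module.finrank F (V7 F) := by rw [Module.finrank_fintype_fun_eq_card]; simp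
  let j : G7 F ≃* ↥(Cfsg.Omega F (⇑Q)) :=
    (MulEquiv.subgroupCongr (commutator_eq_siegelGroup Q hQ h5).symm).trans (omegaEquiv Q)
  have hz : Subgroup.center ↥(Cfsg.Omega F (⇑Q)) = ⊥ := by
    refine Subgroup.eq_bot_of_card_eq _ (card_center_omega_one Q hQ (by simp) (Or.inr ?_))
    rintro ⟨g, hg, eg⟩
    have h1 : g.1.1.det = 1 := congrArg Units.val
      (CfsgLib.Geom.omega_le_special _ hg : Matrix.GeneralLinearGroup.det g.1 = 1)
    rw [eg, Matrix.det_neg, Matrix.det_one, mul_one, Odd.neg_one_pow ⟨3, by simp⟩] at h1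
    exact h2 (by linear_combination -h1)
  let j' : G7 F ≃* Cfsg.POmega F (⇑Q) :=
    MulEquiv.ofBijective ((QuotientGroup.mk' (Subgroup.center ↥(Cfsg.Omega F (⇑Q)))).comp j.toMonoidHom)
      ⟨(MonoidHom.ker_eq_bot_iff _).1 (eq_bot_iff.2 fun g hg => by
        have h : j g ∈ Subgroup.center ↥(Cfsg.Omega F (⇑Q)) :=
          (QuotientGroup.eq_one_iff _).1 hg
        rw [hz, Subgroup.mem_bot, ← map_one j] at h
        exact Subgroup.mem_bot.2 (j.injective h)),
        (QuotientGroup.mk'_surjective _).comp j.surjective⟩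
  obtain ⟨hst, hcard⟩ := proj6_facts hnat h2
  haveI : Finite (Cfsg.POmega F (⇑Q)) := Finite.of_surjective _ j'.surjective
  have hk : ∀ {X : Type u} [Group X] (f : X →* G7 F), (j'.toMonoidHom.comp f).ker = f.ker := fun f => by
    ext x; simp [MonoidHom.mem_ker]
  have hk' : ∀ {X : Type u} [Group X] (f : X →* Cfsg.POmega F (⇑Q)),
      (j'.symm.toMonoidHom.comp f).ker = f.ker := fun f => by ext x; simp [MonoidHom.mem_ker]
  refine CfsgLib.Schur.hasCyclicSchurMultiplier_of_bound' (τ := j'.toMonoidHom.comp (proj6 h2))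
    ⟨j'.surjective.comp hst.1, by rw [hk]; exact hst.2.1, by rw [hk]; exact hst.2.2⟩
    (by rw [hk]; exact hcard) fun Δ _ _ σ hσ => ?_
  have h6 : Nat.card σ.ker ∣ 6 := by
    rw [← hk' σ]
    exact card_dvd_six hnat
      ⟨j'.symm.surjective.comp hσ.1, by rw [hk']; exact hσ.2.1, by rw [hk']; exact hσ.2.2⟩
  exact ⟨cyclic_of_dvd_six
    (fun a b => Subtype.ext (Subgroup.mem_center_iff.1 (hσ.2.1 b.2) a)) h6, h6⟩

end CfsgLib.KnownA.O7ThreeSchur
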