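import Cfsg.Agent.Lib.KnownA.O7ThreeSchur.CommU

/-!
The basic commutators form one orbit.
-/

set_option autoImplicit false
set_option linter.unusedSectionVars false

namespace CfsgLib.KnownA.O7ThreeSchur

open CfsgLib.Geom CfsgLib.Classical CfsgLib.KnownA.OrthGeom CfsgLib.KnownA.OrthLift
  CfsgLib.KnownA.OrthPKills CfsgLib.KnownA.CExt CfsgLib.KnownA.LGood
open QuadraticMap (polar)

universe u

variable {F V : Type*} [Field F] [Finite F] [AddCommGroup V] [Module F V] [FiniteDimensional F V]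
variable {Q : QuadraticForm F V} {Γ : Type u} [Group Γ] [Finite Γ] (S : SLift Q Γ)

/-- The element exchanging a hyperbolic pair and negating a unit vector. -/
def mel (p p' e : V) : Γ := S.s p e * S.s p' e * S.s p e

variable {p p' e : V}

theorem act_mel (h : Hyp Q p p') (he : Q e = 1) (hp : polar Q p e = 0) (hp' : polar Q p' e = 0) :
    S.act (mel S p p' e) p = -p' ∧ S.act (mel S p p' e) p' = -p ∧ S.act (mel S p p' e) e = -e := by
  have hep : polar Q e p = 0 := by rw [QuadraticMap.polar_comm, hp]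
  have hep' : polar Q e p' = 0 := by rw [QuadraticMap.polar_comm, hp']
  have hee : polar Q e e = 2 := by rw [QuadraticMap.polar_self, he, nsmul_eq_mul, mul_one]; norm_num
  refine ⟨?_, ?_, ?_⟩ <;>
  · simp only [mel, S.act_mul, S.act_s h.qx hp, S.act_s h.qy hp']
    simp [QuadraticMap.polar_add_right, QuadraticMap.polar_sub_right, QuadraticMap.polar_smul_right,
      h.xx, h.xy, h.yx, h.yy, hep, hep', hp, hp', hee, he]
    module

theorem act_mel_fix {z : V} (h1 : polar Q p z = 0) (h2 : polar Q p' z = 0) (h3 : polar Q e z = 0) :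
    S.act (mel S p p' e) z = z := by
  simp only [mel, S.act_mul, S.act_s_fix h1 h3, S.act_s_fix h2 h3]

variable {A : Frame Q} (U : Unit0 Q A e) {E : Type u} [Group E] {π : E →* Γ} (hπ : IsCentralSurj π)
include U

theorem Unit0.swapUV (hspan : ∀ w ∈ Wv A, ∃ α β γ : F, w = α • A.u + β • A.u' + γ • e) :
    Unit0 Q (OrthPKills.swapUV A) e :=
  ⟨U.q, U.ex, U.ey, U.ev, U.ev', U.eu, U.eu', hspan⟩

/-- Every basic commutator lies in a subgroup containing one of them. -/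
theorem base_mem (N : Subgroup E) (hN : pair S hπ A.v e A.x A.u ∈ N) :
    (pair S hπ A.v e A.x A.u ∈ N ∧ pair S hπ A.v e A.x A.u' ∈ N ∧
      pair S hπ A.v' e A.x A.u ∈ N ∧ pair S hπ A.v' e A.x A.u' ∈ N) ∧
    (pair S hπ A.u e A.x A.v ∈ N ∧ pair S hπ A.u e A.x A.v' ∈ N ∧
      pair S hπ A.u' e A.x A.v ∈ N ∧ pair S hπ A.u' e A.x A.v' ∈ N) := by
  have cv : ∀ a b : V, polar Q a b = 0 → polar Q b a = 0 := fun a b h => by
    rwa [QuadraticMap.polar_comm]
  -- reading a pair with the signs of the vectors changed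
  have negl : ∀ a b x c : V, Orth Q a b x c → pair S hπ a (-b) x c = (pair S hπ a b x c)⁻¹ := by
    intro a b x c h
    refine eq_inv_of_mul_eq_one_left ?_
    rw [← pair_add_left S hπ (by simpa using h.smul_left (-1)) h, neg_add_cancel,
      pair_zero_left S hπ h.qa]
  have negr : ∀ a b x c : V, Orth Q a b x c → pair S hπ a b x (-c) = (pair S hπ a b x c)⁻¹ := by
    intro a b x c h
    refine eq_inv_of_mul_eq_one_left ?_
    rw [← pair_add_right S hπ (by simpa using h.smul_right (-1)) h, neg_add_cancel,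
      pair_zero_right S hπ h.qx]
  have nega : ∀ a b x c : V, Orth Q a b x c → pair S hπ (-a) b x c = pair S hπ a (-b) x c := by
    intro a b x c h
    rw [pair, pair, ← neg_one_smul F a, S.smul (-1) a b h.qa h.ab, neg_one_smul]
  have ex := cv _ _ U.ex
  have o : ∀ a c : V, a ∈ ({A.v, A.v'} : Set V) → c ∈ ({A.u, A.u'} : Set V) → Orth Q a e A.x c := by
    rintro a c (rfl | rfl) (rfl | rfl)
    exacts [⟨A.P.hxy.qx, A.Puv.huu.qx, U.ev, A.P.xu, A.Pv.ux, A.Puv.ux, ex, cv _ _ U.eu⟩,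
      ⟨A.P.hxy.qx, A.Puv.huu.qx, U.ev, A.P.xu', A.Pv.ux, A.Puv.uy, ex, cv _ _ U.eu'⟩,
      ⟨A.P.hxy.qx, A.Puv.huu.qy, U.ev', A.P.xu, A.Pv.u'x, A.Puv.u'x, ex, cv _ _ U.eu⟩,
      ⟨A.P.hxy.qx, A.Puv.huu.qy, U.ev', A.P.xu', A.Pv.u'x, A.Puv.u'y, ex, cv _ _ U.eu'⟩]
  have o11 := o A.v A.u (Or.inl rfl) (Or.inl rfl)
  have o12 := o A.v A.u' (Or.inl rfl) (Or.inr rfl)
  have o21 := o A.v' A.u (Or.inr rfl) (Or.inl rfl)
  have o22 := o A.v' A.u' (Or.inr rfl) (Or.inr rfl)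
  have h12 : pair S hπ A.v e A.x A.u' ∈ N := by
    obtain ⟨e1, -, e3⟩ := act_mel S A.Puv.hxy U.q U.eu U.eu'
    have k := pair_conj S hπ o11 (mel S A.u A.u' e) (act_mel_fix S A.P.ux A.P.u'x ex)
    rw [act_mel_fix S A.Puv.xu A.Puv.yu (cv _ _ U.ev), e1, e3,
      negl _ _ _ _ (by simpa using o12.smul_right (-1)), negr _ _ _ _ o12, inv_inv] at k
    rw [k]; exact hN
  have fromv : ∀ c, c ∈ ({A.u, A.u'} : Set V) → pair S hπ A.v e A.x c ∈ N →
      pair S hπ A.v' e A.x c ∈ N := by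
    intro c hc hm
    obtain ⟨e1, -, e3⟩ := act_mel S A.Puv.huu U.q U.ev U.ev'
    have oc := o A.v c (Or.inl rfl) hc
    have oc' := o A.v' c (Or.inr rfl) hc
    have hfix : S.act (mel S A.v A.v' e) c = c := by
      rcases hc with rfl | rfl
      · exact act_mel_fix S A.Puv.ux A.Puv.u'x (cv _ _ U.eu)
      · exact act_mel_fix S A.Puv.uy A.Puv.u'y (cv _ _ U.eu')
    have k := pair_conj S hπ oc (mel S A.v A.v' e) (act_mel_fix S A.Pv.ux A.Pv.u'x ex)
    rw [e1, e3, hfix, nega _ _ _ _ (by simpa using oc'.smul_left (-1)), _root_.neg_neg] at k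
    rw [k]; exact hm
  have h21 := fromv A.u (Or.inl rfl) hN
  have h22 := fromv A.u' (Or.inr rfl) h12
  refine ⟨⟨hN, h12, h21, h22⟩, ?_⟩
  set n := S.n A.u A.u' A.v A.v' 1 with hn
  have nx : S.act n A.x = A.x := S.act_n_fix A.Puv 1 A.P.ux A.P.u'x A.Pv.ux A.Pv.u'x
  have ne' : S.act n e = e := S.act_n_fix A.Puv 1 U.eu U.eu' U.ev U.ev'
  have nu : S.act n A.u = A.v := by rw [hn, S.act_n_x A.Puv one_ne_zero, one_smul]
  have nu' : S.act n A.u' = A.v' := by rw [hn, S.act_n_y A.Puv one_ne_zero, inv_one, one_smul]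
  have nv : S.act n A.v = -A.u := by rw [hn, S.act_n_u A.Puv one_ne_zero, inv_one, neg_one_smul]
  have nv' : S.act n A.v' = -A.u' := by rw [hn, S.act_n_u' A.Puv one_ne_zero, neg_one_smul]
  have os : ∀ a c : V, a ∈ ({A.u, A.u'} : Set V) → c ∈ ({A.v, A.v'} : Set V) → Orth Q a e A.x c := by
    rintro a c (rfl | rfl) (rfl | rfl)
    exacts [⟨A.P.hxy.qx, A.Puv.hxy.qx, U.eu, A.Pv.xu, A.P.ux, A.Puv.xu, ex, cv _ _ U.ev⟩,
      ⟨A.P.hxy.qx, A.Puv.hxy.qx, U.eu, A.Pv.xu', A.P.ux, A.Puv.xu', ex, cv _ _ U.ev'⟩,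
      ⟨A.P.hxy.qx, A.Puv.hxy.qy, U.eu', A.Pv.xu, A.P.u'x, A.Puv.yu, ex, cv _ _ U.ev⟩,
      ⟨A.P.hxy.qx, A.Puv.hxy.qy, U.eu', A.Pv.xu', A.P.u'x, A.Puv.yu', ex, cv _ _ U.ev'⟩]
  have out : ∀ a a' c c', S.act n a = -a' → S.act n c = c' → Orth Q a e A.x c → Orth Q a' e A.x c' →
      pair S hπ a e A.x c ∈ N → pair S hπ a' e A.x c' ∈ N := by
    intro a a' c c' ha hc h h' hm
    have k := pair_conj S hπ h n nx
    rw [ha, ne', hc, nega _ _ _ _ h', negl _ _ _ _ h'] at k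
    rw [← inv_inv (pair S hπ a' e A.x c'), k]
    exact inv_mem hm
  exact ⟨out _ _ _ _ nv nu o11 (os _ _ (Or.inl rfl) (Or.inl rfl)) hN,
    out _ _ _ _ nv nu' o12 (os _ _ (Or.inl rfl) (Or.inr rfl)) h12,
    out _ _ _ _ nv' nu o21 (os _ _ (Or.inr rfl) (Or.inl rfl)) h21,
    out _ _ _ _ nv' nu' o22 (os _ _ (Or.inr rfl) (Or.inr rfl)) h22⟩

end CfsgLib.KnownA.O7ThreeSchur
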